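import Mathlib
import Cfsg.Prelude.Def_Transfer
import Cfsg.Agent.Lib.PGroup.Basic

/-! Recognition of an extraspecial 2-group by its commutators, squares and centre. -/

set_option autoImplicit false

namespace CfsgLib.LargeXS

open Subgroup
open scoped commutatorElement

theorem isExtraspecial_of {P : Type*} [Group P] [Finite P] (hP : IsPGroup 2 P) {c : P} (hc : c ≠ 1)
    (hcomm : ∀ x y : P, x * y * x⁻¹ * y⁻¹ = 1 ∨ x * y * x⁻¹ * y⁻¹ = c)
    (hsq : ∀ x : P, x * x = 1 ∨ x * x = c)
    (hcen : ∀ x : P, (∀ y, y * x = x * y) → x = 1 ∨ x = c) (hcc : ∀ y, y * c = c * y)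
    (hbig : ∃ x : P, x ≠ 1 ∧ x ≠ c) : Cfsg.IsExtraspecial 2 P := by
  haveI : Fact (Nat.Prime 2) := ⟨Nat.prime_two⟩
  have hmem : ∀ x : P, x ∈ center P ↔ x = 1 ∨ x = c := fun x =>
    ⟨fun hx => hcen x (mem_center_iff.1 hx), fun h => by
      rcases h with rfl | rfl
      · exact one_mem _
      · exact mem_center_iff.2 hcc⟩
  have hcard : Nat.card (center P) = 2 := by
    rw [Nat.card_eq_two_iff' (1 : center P)]
    refine ⟨⟨c, (hmem c).2 (Or.inr rfl)⟩, fun e => hc (congrArg Subtype.val e), fun x hx => Subtype.ext ?_⟩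
    exact ((hmem x).1 x.2).resolve_left fun e => hx (Subtype.ext e)
  have hle : ∀ x y : P, ⁅x, y⁆ ∈ center P := fun x y => (hmem _).2 (hcomm x y)
  have hcle : commutator P ≤ center P := by
    rw [commutator_eq_closure, closure_le]
    rintro _ ⟨x, y, rfl⟩
    exact hle x y
  have hceq : commutator P = center P := by
    refine eq_of_le_of_card_ge hcle ?_
    rw [hcard]
    refine Subgroup.one_lt_card_iff_ne_bot _ |>.2 fun hb => ?_
    obtain ⟨x, hx1, hxc⟩ := hbig
    refine ((hcen x) fun y => ?_).elim hx1 hxc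
    have h1 : ⁅y, x⁆ = 1 :=
      mem_bot.1 (hb ▸ commutator_mem_commutator (mem_top y) (mem_top x))
    exact (commutatorElement_eq_one_iff_mul_comm.1 h1)
  refine ⟨⟨hP, le_antisymm ?_ ?_, hceq⟩, hcard⟩
  · exact PGroup.frattini_le_of_elementary (p := 2) hle fun x => (hmem _).2 (by rw [pow_two]; exact hsq x)
  · rw [← hceq]; exact PGroup.commutator_le_frattini hP

end CfsgLib.LargeXS
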