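import Mathlib
import Cfsg.Prelude.Def_Transfer

/-! Extraspecial groups are preserved by isomorphisms. -/

set_option autoImplicit false

namespace CfsgLib.LargeXS

open Subgroup

theorem isExtraspecial_congr {P P' : Type*} [Group P] [Group P'] [Finite P] [Finite P'] {p : ℕ} (e : P ≃* P')
    (h : Cfsg.IsExtraspecial p P) : Cfsg.IsExtraspecial p P' := by
  obtain ⟨⟨hp, hf, hc⟩, hcard⟩ := h
  have hcen : (center P).map e.toMonoidHom = center P' := by
    refine le_antisymm ?_ ?_
    · rintro _ ⟨x, hx, rfl⟩
      refine mem_center_iff.2 fun y => ?_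
      obtain ⟨y, rfl⟩ := e.surjective y
      simp only [MulEquiv.coe_toMonoidHom, ← map_mul, mem_center_iff.1 hx y]
    · intro y hy
      obtain ⟨x, rfl⟩ := e.surjective y
      exact ⟨x, mem_center_iff.2 fun a => e.injective (by rw [map_mul, map_mul, mem_center_iff.1 hy]), rfl⟩
  have hfr : (frattini P).map e.toMonoidHom = frattini P' := by
    refine le_antisymm (map_le_iff_le_comap.2 (frattini_le_comap_frattini_of_surjective e.surjective)) ?_
    intro y hy
    exact ⟨e.symm y, frattini_le_comap_frattini_of_surjective (φ := e.symm.toMonoidHom) e.symm.surjective hy,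
      e.apply_symm_apply y⟩
  refine ⟨⟨hp.of_equiv e, ?_, ?_⟩, ?_⟩
  · rw [← hfr, hf, hcen]
  · rw [← hcen, ← hc, commutator_def, commutator_def, Subgroup.map_commutator,
      Subgroup.map_top_of_surjective e.toMonoidHom e.surjective]
  · rw [← hcen, card_map_of_injective (f := e.toMonoidHom) e.injective, hcard]

end CfsgLib.LargeXS
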