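import Mathlib
import Cfsg.Agent.Lib.LargeXSpecial.Basic

/-! The stabilizer of a vector in a general linear group over the field with two elements. -/

set_option autoImplicit false

namespace CfsgLib.LargeXS.Affine

open Subgroup

variable {n : ℕ}

/-- The module. -/
abbrev V (n : ℕ) : Type := ZMod 2 × (Fin n → ZMod 2)

/-- The fixed vector. -/
def z0 (n : ℕ) : V n := (1, 0)

/-- A transvection with centre `z0`. -/
def tA (a : Fin n → ZMod 2) : V n ≃ₗ[ZMod 2] V n where
  toFun v := (v.1 + a ⬝ᵥ v.2, v.2)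
  invFun v := (v.1 + a ⬝ᵥ v.2, v.2)
  left_inv v := by simp [add_assoc, CharTwo.add_self_eq_zero]
  right_inv v := by simp [add_assoc, CharTwo.add_self_eq_zero]
  map_add' v w := by simp [dotProduct_add, add_add_add_comm]
  map_smul' c v := by simp [dotProduct_smul, mul_add]

@[simp] theorem tA_apply (a : Fin n → ZMod 2) (v : V n) : tA a v = (v.1 + a ⬝ᵥ v.2, v.2) := rfl

theorem tA_mul (a b : Fin n → ZMod 2) : tA a * tA b = tA (a + b) := by
  refine LinearEquiv.toLinearMap_injective (LinearMap.ext fun v => ?_)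
  show tA a (tA b v) = tA (a + b) v
  simp only [tA_apply, add_dotProduct]
  exact Prod.ext (show v.1 + b ⬝ᵥ v.2 + a ⬝ᵥ v.2 = v.1 + (a ⬝ᵥ v.2 + b ⬝ᵥ v.2) by ring) rfl

theorem tA_injective : Function.Injective (tA (n := n)) := fun a b h => funext fun i => by
  have h1 := congrArg (fun f : V n ≃ₗ[ZMod 2] V n => (f (0, Pi.single i 1)).1) h
  simpa [dotProduct_single] using h1

/-- The action on the complement. -/
def kA (g : (Fin n → ZMod 2) ≃ₗ[ZMod 2] (Fin n → ZMod 2)) : V n ≃ₗ[ZMod 2] V n :=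
  (LinearEquiv.refl (ZMod 2) (ZMod 2)).prodCongr g

@[simp] theorem kA_apply (g : (Fin n → ZMod 2) ≃ₗ[ZMod 2] (Fin n → ZMod 2)) (v : V n) :
    kA g v = (v.1, g v.2) := rfl

/-- The action on the complement, as a homomorphism. -/
def kHom : ((Fin n → ZMod 2) ≃ₗ[ZMod 2] (Fin n → ZMod 2)) →* (V n ≃ₗ[ZMod 2] V n) where
  toFun := kA
  map_one' := LinearEquiv.toLinearMap_injective (LinearMap.ext fun _ => rfl)
  map_mul' g h := LinearEquiv.toLinearMap_injective (LinearMap.ext fun _ => rfl)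

theorem kHom_injective : Function.Injective (kHom (n := n)) := fun g h e => by
  refine LinearEquiv.toLinearMap_injective (LinearMap.ext fun x => ?_)
  exact congrArg Prod.snd (congrArg (fun f : V n ≃ₗ[ZMod 2] V n => f (0, x)) e)

theorem exists_decomp (s : V n ≃ₗ[ZMod 2] V n) (hs : s (z0 n) = z0 n) :
    ∃ g a, s = kA g * tA a := by
  let l : (Fin n → ZMod 2) →ₗ[ZMod 2] ZMod 2 :=
    (LinearMap.fst (ZMod 2) _ _).comp (s.toLinearMap.comp (LinearMap.inr _ _ _))
  let gl : (Fin n → ZMod 2) →ₗ[ZMod 2] (Fin n → ZMod 2) :=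
    (LinearMap.snd (ZMod 2) _ _).comp (s.toLinearMap.comp (LinearMap.inr _ _ _))
  have hinj : Function.Injective gl := by
    rw [injective_iff_map_eq_zero]
    intro x hx
    have h1 : s (0, x) = s ((l x) • z0 n) := by
      rw [map_smul, hs]
      exact Prod.ext (show (s (0, x)).1 = l x * 1 by rw [mul_one]; rfl) (show gl x = l x • 0 by rw [hx, smul_zero])
    have h2 := congrArg Prod.snd (s.injective h1)
    simpa [z0] using h2
  refine ⟨LinearEquiv.ofInjectiveEndo gl hinj, fun i => l (Pi.single i 1), ?_⟩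
  refine LinearEquiv.toLinearMap_injective (LinearMap.ext fun v => ?_)
  have hl : ∀ x, (fun i => l (Pi.single i 1)) ⬝ᵥ x = l x := fun x => by
    conv_rhs => rw [pi_eq_sum_univ' x, map_sum]
    simp only [map_smul, smul_eq_mul, dotProduct, mul_comm]
  show s v = kA _ (tA _ v)
  rw [kA_apply, tA_apply, hl, show v = v.1 • z0 n + (0, v.2) by simp [z0], map_add, map_smul, hs]
  refine Prod.ext ?_ ?_
  · simp [z0, l]
  · simp [z0, gl, LinearEquiv.coe_ofInjectiveEndo]

theorem exists_moving {v w : Fin n → ZMod 2} (hv : v ≠ 0) (hw : w ≠ 0) :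
    ∃ g : (Fin n → ZMod 2) ≃ₗ[ZMod 2] (Fin n → ZMod 2), g v = w := by
  by_cases hvw : v = w
  · exact ⟨LinearEquiv.refl _ _, hvw⟩
  have hone : ∀ a : ZMod 2, a ≠ 0 → a = 1 := by decide
  obtain ⟨f, hfv, hfw⟩ : ∃ f : (Fin n → ZMod 2) →ₗ[ZMod 2] ZMod 2, f v = 1 ∧ f w = 1 := by
    obtain ⟨i, hi⟩ := Function.ne_iff.1 hv
    obtain ⟨j, hj⟩ := Function.ne_iff.1 hw
    by_cases h1 : w i = 0
    · by_cases h2 : v j = 0
      · let p : (Fin n → ZMod 2) →ₗ[ZMod 2] ZMod 2 := LinearMap.proj i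
        let q : (Fin n → ZMod 2) →ₗ[ZMod 2] ZMod 2 := LinearMap.proj j
        refine ⟨p + q, ?_, ?_⟩
        · show v i + v j = 1
          rw [h2, hone _ hi, add_zero]
        · show w i + w j = 1
          rw [h1, hone _ hj, zero_add]
      · exact ⟨LinearMap.proj j, hone _ h2, hone _ hj⟩
    · exact ⟨LinearMap.proj i, hone _ hi, hone _ h1⟩
  have hfd : f (w - v) = 0 := by rw [map_sub, hfv, hfw, sub_self]
  have hinv : ∀ x, x + f x • (w - v) + f (x + f x • (w - v)) • (w - v) = x := fun x => by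
    rw [map_add, map_smul, hfd, smul_zero, add_zero, add_assoc, ← add_smul, CharTwo.add_self_eq_zero,
      zero_smul, add_zero]
  let F : (Fin n → ZMod 2) →ₗ[ZMod 2] (Fin n → ZMod 2) := LinearMap.id + f.smulRight (w - v)
  refine ⟨LinearEquiv.ofLinear F F (LinearMap.ext fun x => hinv x) (LinearMap.ext fun x => hinv x), ?_⟩
  show v + f v • (w - v) = w
  rw [hfv, one_smul, add_sub_cancel]

theorem normal_two_eq_bot (hn : 1 ≤ n) (P : Subgroup ((Fin n → ZMod 2) ≃ₗ[ZMod 2] (Fin n → ZMod 2)))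
    [P.Normal] (hP : IsPGroup 2 P) : P = ⊥ := by
  haveI : Fact (Nat.Prime 2) := ⟨Nat.prime_two⟩
  have hdvd : 2 ∣ Nat.card (Fin n → ZMod 2) := by
    rw [Nat.card_fun, Nat.card_zmod, Nat.card_fin]
    exact dvd_pow_self 2 (by omega)
  let act : MulAction P (Fin n → ZMod 2) :=
    { smul := fun p x => (p : (Fin n → ZMod 2) ≃ₗ[ZMod 2] (Fin n → ZMod 2)) x
      one_smul := fun _ => rfl
      mul_smul := fun _ _ _ => rfl }
  obtain ⟨v, hv, hv0⟩ := hP.exists_fixed_point_of_prime_dvd_card_of_fixed_point (Fin n → ZMod 2) hdvd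
    (a := 0) fun p => map_zero (p : (Fin n → ZMod 2) ≃ₗ[ZMod 2] (Fin n → ZMod 2))
  rw [eq_bot_iff]
  intro p hp
  refine mem_bot.2 (LinearEquiv.toLinearMap_injective (LinearMap.ext fun w => ?_))
  show p w = w
  by_cases hw : w = 0
  · rw [hw, map_zero]
  obtain ⟨g, hg⟩ := exists_moving hv0.symm hw
  have h1 : g⁻¹ * p * g ∈ P := by simpa using (inferInstance : P.Normal).conj_mem p hp g⁻¹
  have h2 : g.symm (p (g v)) = v := hv ⟨_, h1⟩
  rw [hg, LinearEquiv.symm_apply_eq, hg] at h2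
  exact h2

end CfsgLib.LargeXS.Affine
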