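import Mathlib
import Cfsg.Prelude.Def_MonsterType
import Cfsg.Agent.Lib.LargeXS.TransvectionModel
import Cfsg.Agent.Lib.LargeXS.OfCommutators
import Cfsg.Agent.S5420

/-! The centralizer of an involution of the normal subgroup in an affine group over the field with two elements. -/

set_option autoImplicit false

namespace CfsgLib.LargeXS.Affine

open Subgroup

variable {G : Type*} [Group G] {n : ℕ}

/-- A split extension of `V n` by its full automorphism group, in coordinates. -/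
structure Coords (G : Type*) [Group G] (n : ℕ) where
  U : Subgroup G
  normal : U.Normal
  e : U ≃* Multiplicative (V n)
  act : G →* (V n ≃ₗ[ZMod 2] V n)
  act_spec : ∀ (x : G) (u : U), act x (e u).toAdd = (e ⟨x * u * x⁻¹, normal.conj_mem u u.2 x⟩).toAdd
  lift : (V n ≃ₗ[ZMod 2] V n) →* G
  lift_spec : ∀ s, act (lift s) = s
  ker : ∀ x : G, act x = 1 → x ∈ U

namespace Coords

variable (c : Coords G n)

/-- The involution. -/
noncomputable def z : G := (c.e.symm (Multiplicative.ofAdd (z0 n)) : c.U)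

theorem toAdd_eq (x : G) (hx : x ∈ c.U) (h : (c.e ⟨x, hx⟩).toAdd = 0) : x = 1 := by
  have h1 : c.e ⟨x, hx⟩ = 1 := Multiplicative.toAdd.injective h
  exact congrArg Subtype.val (c.e.map_eq_one_iff.1 h1)

theorem e_z : (c.e ⟨c.z, (c.e.symm (Multiplicative.ofAdd (z0 n))).2⟩).toAdd = z0 n :=
  congrArg Multiplicative.toAdd (c.e.apply_symm_apply (Multiplicative.ofAdd (z0 n)))

theorem eq_z {x : G} (hx : x ∈ c.U) (h : (c.e ⟨x, hx⟩).toAdd = z0 n) : x = c.z := by
  have h1 : c.e ⟨x, hx⟩ = c.e ⟨c.z, (c.e.symm (Multiplicative.ofAdd (z0 n))).2⟩ :=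
    Multiplicative.toAdd.injective (h.trans c.e_z.symm)
  exact congrArg Subtype.val (c.e.injective h1)

theorem act_U {x : G} (hx : x ∈ c.U) : c.act x = 1 := by
  refine LinearEquiv.toLinearMap_injective (LinearMap.ext fun v => ?_)
  obtain ⟨u, hu⟩ := c.e.surjective (Multiplicative.ofAdd v)
  have h1 := c.act_spec x u
  rw [hu, toAdd_ofAdd] at h1
  show c.act x v = v
  rw [h1, show (⟨x * u * x⁻¹, c.normal.conj_mem u u.2 x⟩ : c.U) = ⟨x, hx⟩ * u * ⟨x, hx⟩⁻¹ from rfl,
    MulEquiv.map_mul c.e, MulEquiv.map_mul c.e, MulEquiv.map_inv c.e, mul_comm (c.e ⟨x, hx⟩), mul_inv_cancel_right,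
    hu, toAdd_ofAdd]

/-- The centralizer of the involution. -/
theorem mem_cent_iff {x : G} : x ∈ centralizer ({c.z} : Set G) ↔ c.act x (z0 n) = z0 n := by
  rw [mem_centralizer_singleton_iff, ← mul_inv_eq_iff_eq_mul]
  have h1 := c.act_spec x ⟨c.z, (c.e.symm (Multiplicative.ofAdd (z0 n))).2⟩
  rw [c.e_z] at h1
  constructor
  · intro h
    rw [h1]
    refine Eq.trans ?_ c.e_z
    congr 2
    exact Subtype.ext h
  · intro h
    exact c.eq_z _ (h1.symm.trans h)

/-- The 2-core of the centralizer. -/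
def Q : Subgroup G where
  carrier := {x | c.act x (z0 n) = z0 n ∧ ∀ v, (c.act x v).2 = v.2}
  one_mem' := by simp
  mul_mem' := fun {x y} hx hy => by
    refine ⟨?_, fun v => ?_⟩
    · rw [map_mul, LinearEquiv.mul_apply, hy.1, hx.1]
    · rw [map_mul, LinearEquiv.mul_apply, hx.2, hy.2]
  inv_mem' := fun {x} hx => by
    refine ⟨?_, fun v => ?_⟩
    · rw [map_inv]
      show (c.act x).symm (z0 n) = z0 n
      rw [LinearEquiv.symm_apply_eq, hx.1]
    · rw [map_inv]
      have := hx.2 ((c.act x).symm v)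
      rw [LinearEquiv.apply_symm_apply] at this
      exact this.symm

theorem mem_Q_iff {x : G} : x ∈ c.Q ↔ c.act x (z0 n) = z0 n ∧ ∀ v, (c.act x v).2 = v.2 := Iff.rfl

theorem act_of_mem_Q {x : G} (hx : x ∈ c.Q) : ∃ a, c.act x = tA a := by
  obtain ⟨g, a, hga⟩ := exists_decomp _ hx.1
  refine ⟨a, ?_⟩
  have hg : g = LinearEquiv.refl _ _ := LinearEquiv.toLinearMap_injective (LinearMap.ext fun y => by
    have := hx.2 (0, y)
    rwa [hga, LinearEquiv.mul_apply, tA_apply, kA_apply] at this)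
  rw [hga, hg]
  exact LinearEquiv.toLinearMap_injective (LinearMap.ext fun _ => rfl)

theorem tA_mem (a : Fin n → ZMod 2) : c.lift (tA a) ∈ c.Q := by
  refine ⟨?_, fun v => ?_⟩ <;> rw [c.lift_spec]
  · simp [z0]
  · simp

theorem U_le : c.U ≤ c.Q := fun x hx => by
  refine ⟨?_, fun v => ?_⟩ <;> rw [c.act_U hx] <;> rfl

theorem decompose {x : G} (hx : x ∈ c.Q) : ∃ a, ∃ u ∈ c.U, c.act x = tA a ∧ x = u * c.lift (tA a) := by
  obtain ⟨a, ha⟩ := c.act_of_mem_Q hx
  exact ⟨a, x * (c.lift (tA a))⁻¹, c.ker _ (by rw [map_mul, map_inv, c.lift_spec, ha, mul_inv_cancel]), ha,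
    by group⟩

theorem conj_mem_Q {g : G} (hg : g ∈ centralizer ({c.z} : Set G)) {x : G} (hx : x ∈ c.Q) :
    g * x * g⁻¹ ∈ c.Q := by
  have hg' := c.mem_cent_iff.1 hg
  obtain ⟨a, ha⟩ := c.act_of_mem_Q hx
  have hsymm : (c.act g).symm (z0 n) = z0 n := by rw [LinearEquiv.symm_apply_eq, hg']
  have happ : ∀ v, c.act (g * x * g⁻¹) v = c.act g (tA a ((c.act g).symm v)) := fun v => by
    rw [map_mul, map_mul, map_inv, ha]; rfl
  have htA : ∀ w : V n, tA a w = (a ⬝ᵥ w.2) • z0 n + w := fun w => by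
    rw [tA_apply]; simp [z0, add_comm]
    exact Prod.ext (by simp [add_comm]) (by simp)
  refine ⟨?_, fun v => ?_⟩
  · rw [happ, hsymm, htA, map_add, map_smul, hg']
    simp [z0]
  · rw [happ, htA, map_add, map_smul, hg', LinearEquiv.apply_symm_apply]
    simp [z0]

/-- Elements `u τ_a` in coordinates. -/
theorem card_Q [Finite G] : Nat.card c.Q = 2 ^ (2 * n + 1) := by
  let f : c.U × (Fin n → ZMod 2) → c.Q := fun p => ⟨p.1 * c.lift (tA p.2), mul_mem (c.U_le p.1.2) (c.tA_mem p.2)⟩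
  have hf : Function.Bijective f := by
    refine ⟨fun p q h => ?_, fun x => ?_⟩
    · have h' : (p.1 : G) * c.lift (tA p.2) = q.1 * c.lift (tA q.2) := congrArg Subtype.val h
      have h2 := congrArg c.act h'
      rw [map_mul, map_mul, c.act_U p.1.2, c.act_U q.1.2, one_mul, one_mul, c.lift_spec, c.lift_spec] at h2
      have h3 := tA_injective h2
      rw [h3] at h'
      exact Prod.ext (Subtype.ext (mul_right_cancel h')) h3
    · obtain ⟨a, u, hu, -, hx⟩ := c.decompose x.2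
      exact ⟨(⟨u, hu⟩, a), Subtype.ext hx.symm⟩
  rw [← Nat.card_congr (Equiv.ofBijective f hf), Nat.card_prod,
    Nat.card_congr (c.e.toEquiv.trans Multiplicative.toAdd), Nat.card_prod, Nat.card_zmod, Nat.card_fun,
    Nat.card_zmod, Nat.card_fin]
  ring

theorem central_Q {x : G} (hx : ∀ q ∈ c.Q, q * x = x * q) : x = 1 ∨ x = c.z := by
  have hxU : x ∈ c.U := by
    refine c.ker x (LinearEquiv.toLinearMap_injective (LinearMap.ext fun v => ?_))
    obtain ⟨u, hu⟩ := c.e.surjective (Multiplicative.ofAdd v)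
    have h1 := c.act_spec x u
    rw [hu, toAdd_ofAdd] at h1
    show c.act x v = v
    rw [h1, show (⟨x * u * x⁻¹, c.normal.conj_mem u u.2 x⟩ : c.U) = u from Subtype.ext (by
      show x * u * x⁻¹ = u
      rw [← hx u (c.U_le u.2), mul_inv_cancel_right]), hu, toAdd_ofAdd]
  have h2 : (c.e ⟨x, hxU⟩).toAdd.2 = 0 := by
    funext i
    have h1 := c.act_spec (c.lift (tA (Pi.single i 1))) ⟨x, hxU⟩
    rw [show (⟨c.lift (tA (Pi.single i 1)) * x * (c.lift (tA (Pi.single i 1)))⁻¹,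
        c.normal.conj_mem x hxU _⟩ : c.U) = ⟨x, hxU⟩ from Subtype.ext (by
      show c.lift (tA (Pi.single i 1)) * x * (c.lift (tA (Pi.single i 1)))⁻¹ = x
      rw [hx _ (c.tA_mem _), mul_inv_cancel_right]), c.lift_spec] at h1
    have h3 := congrArg Prod.fst h1
    rw [tA_apply, single_dotProduct, one_mul] at h3
    simpa using h3
  rcases (show ∀ a : ZMod 2, a = 0 ∨ a = 1 by decide) (c.e ⟨x, hxU⟩).toAdd.1 with e | e
  · exact Or.inl (c.toAdd_eq x hxU (Prod.ext e h2))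
  · exact Or.inr (c.eq_z hxU (Prod.ext e h2))

theorem z_cases {x : G} (hxU : x ∈ c.U) (h : (c.e ⟨x, hxU⟩).toAdd.2 = 0) : x = 1 ∨ x = c.z := by
  rcases (show ∀ a : ZMod 2, a = 0 ∨ a = 1 by decide) (c.e ⟨x, hxU⟩).toAdd.1 with e | e
  · exact Or.inl (c.toAdd_eq x hxU (Prod.ext e h))
  · exact Or.inr (c.eq_z hxU (Prod.ext e h))

/-- Squares and commutators. -/
theorem sq_comm {x y : G} (hx : x ∈ c.Q) (hy : y ∈ c.Q) :
    (x * x = 1 ∨ x * x = c.z) ∧ (x * y * x⁻¹ * y⁻¹ = 1 ∨ x * y * x⁻¹ * y⁻¹ = c.z) := by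
  obtain ⟨a, u, hu, -, rfl⟩ := c.decompose hx
  obtain ⟨b, w, hw, -, rfl⟩ := c.decompose hy
  set s := c.lift (tA a) with hs
  set t := c.lift (tA b) with ht
  have hst : s * t = t * s := by rw [hs, ht, ← map_mul, ← map_mul, tA_mul, tA_mul, add_comm]
  have hss : s * s = 1 := by
    rw [hs, ← map_mul, tA_mul, show a + a = 0 from funext fun i => CharTwo.add_self_eq_zero _]
    rw [show tA (0 : Fin n → ZMod 2) = 1 from LinearEquiv.toLinearMap_injective (LinearMap.ext fun v => by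
      show tA 0 v = v
      simp), map_one]
  have hc : ∀ (k : Fin n → ZMod 2) (p : G) (hp : p ∈ c.U),
      (c.e ⟨c.lift (tA k) * p * (c.lift (tA k))⁻¹, c.normal.conj_mem p hp _⟩).toAdd.2 =
        (c.e ⟨p, hp⟩).toAdd.2 := fun k p hp => by
    rw [← c.act_spec (c.lift (tA k)) ⟨p, hp⟩, c.lift_spec, tA_apply]
  have hmul : ∀ p q : c.U, (c.e (p * q)).toAdd.2 = (c.e p).toAdd.2 + (c.e q).toAdd.2 := fun p q => by
    rw [map_mul]; rfl
  have hinv : ∀ p : c.U, (c.e p⁻¹).toAdd.2 = (c.e p).toAdd.2 := fun p => by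
    rw [map_inv, toAdd_inv, Prod.snd_neg]
    exact funext fun i => CharTwo.neg_eq _
  have hadd : ∀ p : Fin n → ZMod 2, p + p = 0 := fun p => funext fun i => CharTwo.add_self_eq_zero _
  constructor
  · have h1 : u * (s * u * s⁻¹) ∈ c.U := mul_mem hu (c.normal.conj_mem u hu s)
    have h2 : (c.e ⟨_, h1⟩).toAdd.2 = 0 := by
      rw [show (⟨_, h1⟩ : c.U) = ⟨u, hu⟩ * ⟨s * u * s⁻¹, c.normal.conj_mem u hu s⟩ from rfl, hmul, hc a u hu, hadd]
    rw [show u * s * (u * s) = u * (s * u * s⁻¹) * (s * s) by group, hss, mul_one]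
    exact c.z_cases h1 h2
  · have h1 : u * (s * w * s⁻¹) * (t * u⁻¹ * t⁻¹) * w⁻¹ ∈ c.U :=
      mul_mem (mul_mem (mul_mem hu (c.normal.conj_mem w hw s)) (c.normal.conj_mem _ (inv_mem hu) t)) (inv_mem hw)
    have h2 : (c.e ⟨_, h1⟩).toAdd.2 = 0 := by
      rw [show (⟨_, h1⟩ : c.U) = ⟨u, hu⟩ * ⟨s * w * s⁻¹, c.normal.conj_mem w hw s⟩ *
        ⟨t * u⁻¹ * t⁻¹, c.normal.conj_mem _ (inv_mem hu) t⟩ * ⟨w⁻¹, inv_mem hw⟩ from rfl, hmul, hmul, hmul,
        hc a w hw, hc b u⁻¹ (inv_mem hu), show (⟨u⁻¹, inv_mem hu⟩ : c.U) = ⟨u, hu⟩⁻¹ from rfl,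
        show (⟨w⁻¹, inv_mem hw⟩ : c.U) = ⟨w, hw⟩⁻¹ from rfl, hinv, hinv]
      rw [show ∀ p q : Fin n → ZMod 2, p + q + p + q = (p + p) + (q + q) from fun p q => by abel, hadd, hadd,
        add_zero]
    have e : u * s * (w * t) * (u * s)⁻¹ * (w * t)⁻¹ = u * (s * w * s⁻¹) * (t * u⁻¹ * t⁻¹) * w⁻¹ := by
      calc u * s * (w * t) * (u * s)⁻¹ * (w * t)⁻¹ = u * (s * w * s⁻¹) * (s * t) * s⁻¹ * u⁻¹ * t⁻¹ * w⁻¹ := by group
        _ = u * (s * w * s⁻¹) * (t * s) * s⁻¹ * u⁻¹ * t⁻¹ * w⁻¹ := by rw [hst]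
        _ = _ := by group
    rw [e]
    exact c.z_cases h1 h2

theorem z_mem : c.z ∈ c.U := (c.e.symm (Multiplicative.ofAdd (z0 n))).2

theorem z_central {q : G} (hq : q ∈ c.Q) : q * c.z = c.z * q :=
  mem_centralizer_singleton_iff.1 (c.mem_cent_iff.2 hq.1)

theorem z_ne_one : c.z ≠ 1 := fun e => by
  have h := c.e_z
  rw [show (⟨c.z, c.z_mem⟩ : c.U) = 1 from Subtype.ext e, map_one] at h
  exact one_ne_zero (congrArg Prod.fst h).symm

theorem isExtraspecial [Finite G] (hn : 1 ≤ n) : Cfsg.IsExtraspecial 2 c.Q := by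
  refine isExtraspecial_of (IsPGroup.of_card c.card_Q) (c := ⟨c.z, c.U_le c.z_mem⟩)
    (fun e => c.z_ne_one (congrArg Subtype.val e)) (fun x y => ?_) (fun x => ?_) (fun x hx => ?_)
    (fun y => Subtype.ext (c.z_central y.2)) ?_
  · exact (c.sq_comm x.2 y.2).2.imp (fun e => Subtype.ext e) fun e => Subtype.ext e
  · exact (c.sq_comm x.2 x.2).1.imp (fun e => Subtype.ext e) fun e => Subtype.ext e
  · exact (c.central_Q fun q hq => congrArg Subtype.val (hx ⟨q, hq⟩)).imp (fun e => Subtype.ext e) fun e => Subtype.ext e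
  · by_contra! hall
    have h1 : Nat.card c.Q ≤ 2 := by
      classical
      rw [← Nat.card_congr (Equiv.Set.univ c.Q), Nat.card_coe_set_eq]
      have hsub : (Set.univ : Set c.Q) ⊆ {1, ⟨c.z, c.U_le c.z_mem⟩} := fun x _ => by
        by_cases h1 : x = 1
        · exact Or.inl h1
        · exact Or.inr (hall x h1)
      exact (Set.ncard_le_ncard hsub (Set.toFinite _)).trans ((Set.ncard_insert_le _ _).trans (by simp))
    have h8 : 2 ^ 3 ≤ Nat.card c.Q := c.card_Q ▸ Nat.pow_le_pow_right (by norm_num) (by omega)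
    omega

theorem center_map [Finite G] (hn : 1 ≤ n) : (Subgroup.center c.Q).map c.Q.subtype = zpowers c.z := by
  refine (eq_of_le_of_card_ge (zpowers_le.2 ?_) ?_).symm
  · exact ⟨⟨c.z, c.U_le c.z_mem⟩, mem_center_iff.2 fun q => Subtype.ext (c.z_central q.2), rfl⟩
  · rw [card_map_of_injective c.Q.subtype_injective, (c.isExtraspecial hn).2, Nat.card_zpowers]
    refine le_of_eq (orderOf_eq_prime ?_ c.z_ne_one).symm
    rw [pow_two]
    exact congrArg Subtype.val (show (⟨c.z, c.z_mem⟩ * ⟨c.z, c.z_mem⟩ : c.U) = 1 from c.e.injective (by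
      rw [map_mul, map_one]
      refine Multiplicative.toAdd.injective ?_
      rw [toAdd_mul, toAdd_one, c.e_z]
      exact Prod.ext (CharTwo.add_self_eq_zero _) (funext fun i => CharTwo.add_self_eq_zero _)))

theorem cent_Q [Finite G] (hn : 1 ≤ n) :
    centralizer (c.Q : Set G) = (Subgroup.center c.Q).map c.Q.subtype := by
  rw [c.center_map hn]
  refine le_antisymm (fun x hx => ?_) (zpowers_le.2 (mem_centralizer_iff.2 fun q hq => c.z_central hq))
  rcases c.central_Q (fun q hq => mem_centralizer_iff.1 hx q hq) with e | e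
  · exact e ▸ one_mem _
  · exact e ▸ mem_zpowers _

theorem norm_Q [Finite G] (hn : 1 ≤ n) :
    centralizer (((Subgroup.center c.Q).map c.Q.subtype : Subgroup G) : Set G) ≤ normalizer (c.Q : Set G) := by
  rw [c.center_map hn, zpowers_eq_closure, centralizer_closure]
  exact fun g hg => mem_normalizer_fintype fun x hx => c.conj_mem_Q hg hx

theorem large [Finite G] (hn : 1 ≤ n) : Cfsg.IsLargeExtraspecial c.Q := by
  refine Cfsg.Agent.S5420.result c.Q (c.isExtraspecial hn) (c.cent_Q hn) (c.norm_Q hn) ?_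
  have hp : IsPGroup 2 c.U := IsPGroup.of_card (n := n + 1) (by
    rw [Nat.card_congr (c.e.toEquiv.trans Multiplicative.toAdd), Nat.card_prod, Nat.card_zmod, Nat.card_fun,
      Nat.card_zmod, Nat.card_fin, pow_succ'])
  rw [c.center_map hn, zpowers_le]
  have hle : c.U ≤ Cfsg.pCore 2 G := le_sSup ⟨c.normal, hp⟩
  exact hle c.z_mem

theorem elementary [Finite G] : ∃ E : Subgroup G, E ≤ c.Q ∧ Cfsg.IsElementaryAbelian 2 E ∧
    Nat.card E = 2 ^ (n + 1) := by
  refine ⟨c.U, c.U_le, ⟨⟨⟨fun a b => c.e.injective (by rw [map_mul, map_mul, mul_comm])⟩⟩, fun a ha => ?_⟩, ?_⟩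
  · have h1 : (⟨a, ha⟩ : c.U) ^ 2 = 1 := c.e.injective (by
      rw [map_pow, map_one, pow_two]
      refine Multiplicative.toAdd.injective ?_
      rw [toAdd_mul, toAdd_one]
      exact Prod.ext (CharTwo.add_self_eq_zero _) (funext fun i => CharTwo.add_self_eq_zero _))
    exact congrArg Subtype.val h1
  · rw [Nat.card_congr (c.e.toEquiv.trans Multiplicative.toAdd), Nat.card_prod, Nat.card_zmod, Nat.card_fun,
      Nat.card_zmod, Nat.card_fin, pow_succ']

/-- The Levi complement. -/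
def K : Subgroup G := (c.lift.comp kHom).range

theorem K_le : c.K ≤ centralizer ({c.z} : Set G) := by
  rintro _ ⟨g, rfl⟩
  rw [c.mem_cent_iff]
  show c.act (c.lift (kA g)) (z0 n) = z0 n
  rw [c.lift_spec, kA_apply]
  simp [z0]

theorem inf_K : c.Q ⊓ c.K = ⊥ := by
  rw [eq_bot_iff]
  rintro x ⟨hx, g, rfl⟩
  refine mem_bot.2 ?_
  have hg : g = 1 := LinearEquiv.toLinearMap_injective (LinearMap.ext fun y => by
    have := hx.2 (0, y)
    rw [show c.act ((c.lift.comp kHom) g) = kA g from c.lift_spec _, kA_apply] at this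
    exact this)
  rw [hg, map_one]

theorem Q_le : c.Q ≤ centralizer ({c.z} : Set G) := fun _ hx => c.mem_cent_iff.2 hx.1

theorem sup_K : c.Q ⊔ c.K = centralizer ({c.z} : Set G) := by
  refine le_antisymm (sup_le c.Q_le c.K_le) fun x hx => ?_
  obtain ⟨g, a, hga⟩ := exists_decomp _ (c.mem_cent_iff.1 hx)
  have h1 : x * (c.lift (kA g))⁻¹ ∈ c.Q := by
    have h2 : (c.lift (kA g))⁻¹ * x ∈ c.Q := by
      refine ⟨?_, fun v => ?_⟩ <;> rw [map_mul, map_inv, c.lift_spec, hga, inv_mul_cancel_left]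
      · simp [z0]
      · simp
    have := c.conj_mem_Q (c.K_le (show c.lift (kA g) ∈ c.K from ⟨g, rfl⟩)) h2
    convert this using 1
    group
  have := mul_mem (mem_sup_left (T := c.K) h1) (mem_sup_right (S := c.Q) (show c.lift (kA g) ∈ c.K from ⟨g, rfl⟩))
  rwa [inv_mul_cancel_right] at this

theorem K_equiv : Nonempty (c.K ≃* ((Fin n → ZMod 2) ≃ₗ[ZMod 2] (Fin n → ZMod 2))) := by
  refine ⟨(MonoidHom.ofInjective fun g h e => ?_).symm⟩
  refine kHom_injective ?_
  have := congrArg c.act e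
  rwa [show c.act ((c.lift.comp kHom) g) = kHom g from c.lift_spec _,
    show c.act ((c.lift.comp kHom) h) = kHom h from c.lift_spec _] at this

theorem pCore_eq [Finite G] (hn : 1 ≤ n) :
    (Cfsg.pCore 2 ↥(centralizer ({c.z} : Set G))).map (centralizer ({c.z} : Set G)).subtype = c.Q := by
  set C := centralizer ({c.z} : Set G) with hC
  refine le_antisymm ?_ fun x hx => ?_
  · rintro _ ⟨x, hx, rfl⟩
    let P : Subgroup ((Fin n → ZMod 2) ≃ₗ[ZMod 2] (Fin n → ZMod 2)) :=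
      ((Cfsg.pCore 2 ↥C).map C.subtype).comap (c.lift.comp kHom)
    have hinj : Function.Injective (c.lift.comp kHom) := fun g h e => kHom_injective (by
      have := congrArg c.act e
      rwa [show c.act ((c.lift.comp kHom) g) = kHom g from c.lift_spec _,
        show c.act ((c.lift.comp kHom) h) = kHom h from c.lift_spec _] at this)
    haveI : P.Normal := ⟨fun p hp g => by
      obtain ⟨y, hy, hye⟩ := mem_comap.1 hp
      refine mem_comap.2 ⟨⟨_, c.K_le ⟨g, rfl⟩⟩ * y * ⟨_, c.K_le ⟨g, rfl⟩⟩⁻¹,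
        (inferInstance : (Cfsg.pCore 2 ↥C).Normal).conj_mem y hy _, ?_⟩
      rw [map_mul, map_mul, map_inv, hye, map_mul, map_mul, map_inv]
      rfl⟩
    have hP : P = ⊥ := normal_two_eq_bot hn P
      (((pCore_isPGroup 2 ↥C).map _).comap_of_injective _ hinj)
    have hQle : c.Q.subgroupOf C ≤ Cfsg.pCore 2 ↥C := by
      refine le_sSup ⟨⟨fun a ha g => mem_subgroupOf.2 (c.conj_mem_Q g.2 (mem_subgroupOf.1 ha))⟩, ?_⟩
      exact (IsPGroup.of_card c.card_Q).comap_of_injective _ C.subtype_injective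
    obtain ⟨g, a, hga⟩ := exists_decomp _ (c.mem_cent_iff.1 x.2)
    have h2 : (c.lift (kA g))⁻¹ * (x : G) ∈ c.Q := by
      refine ⟨?_, fun v => ?_⟩ <;> rw [map_mul, map_inv, c.lift_spec, hga, inv_mul_cancel_left]
      · simp [z0]
      · simp
    have hgP : g ∈ P := by
      refine mem_comap.2 ⟨x * ⟨_, c.Q_le h2⟩⁻¹, mul_mem hx (inv_mem (hQle (mem_subgroupOf.2 h2))), ?_⟩
      show (x : G) * ((c.lift (kA g))⁻¹ * (x : G))⁻¹ = c.lift (kA g)
      group
    rw [hP, mem_bot] at hgP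
    rw [hgP, show kA (1 : (Fin n → ZMod 2) ≃ₗ[ZMod 2] (Fin n → ZMod 2)) = 1 from map_one kHom, map_one, inv_one,
      one_mul] at h2
    exact h2
  · have hQle : c.Q.subgroupOf C ≤ Cfsg.pCore 2 ↥C := by
      refine le_sSup ⟨⟨fun a ha g => mem_subgroupOf.2 (c.conj_mem_Q g.2 (mem_subgroupOf.1 ha))⟩, ?_⟩
      exact (IsPGroup.of_card c.card_Q).comap_of_injective _ C.subtype_injective
    exact ⟨⟨x, c.Q_le hx⟩, hQle (mem_subgroupOf.2 hx), rfl⟩

end Coords

end CfsgLib.LargeXS.Affine
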