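import Mathlib
import Cfsg.Prelude.Def_Transfer
import Cfsg.Agent.Lib.LargeXS.AffineExtension

/-! Coordinates for a split extension of an elementary abelian group by its full automorphism group. -/

set_option autoImplicit false

namespace CfsgLib.LargeXS.Affine

open Subgroup

variable {G : Type*} [Group G] [Finite G] {n : ℕ}

theorem exists_equiv (U : Subgroup G) (hU : Cfsg.IsElementaryAbelian 2 U) (hcard : Nat.card U = 2 ^ (n + 1))
    (z : U) (hz : z ≠ 1) : ∃ e : U ≃* Multiplicative (V n), (e z).toAdd = z0 n := by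
  have hone : ∀ a : ZMod 2, a ≠ 0 → a = 1 := by decide
  letI : CommGroup U := { (inferInstance : Group U) with mul_comm := fun a b => hU.1.is_comm.comm a b }
  letI : Module (ZMod 2) (Additive U) := AddCommGroup.zmodModule (n := 2) fun v => by
    refine Additive.toMul.injective ?_
    show (Additive.toMul v) ^ 2 = 1
    exact Subtype.ext (hU.2 _ (Additive.toMul v).2)
  haveI : Finite (Additive U) := inferInstanceAs (Finite U)
  haveI : Fact (Nat.Prime 2) := ⟨Nat.prime_two⟩
  have hne : Additive.ofMul z ∉ (⊥ : Submodule (ZMod 2) (Additive U)) := by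
    simpa using hz
  obtain ⟨f, hf, -⟩ := Submodule.exists_dual_map_eq_bot_of_notMem hne inferInstance
  have hf1 : f (Additive.ofMul z) = 1 := hone _ hf
  have hrank : Module.finrank (ZMod 2) (Additive U) = n + 1 := by
    have h1 := Module.natCard_eq_pow_finrank (K := ZMod 2) (V := Additive U)
    rw [Nat.card_zmod] at h1
    exact Nat.pow_right_injective le_rfl (h1.symm.trans ((Nat.card_congr Additive.toMul).trans hcard))
  have hsurj : LinearMap.range f = ⊤ := LinearMap.range_eq_top.2 fun a => ⟨a • Additive.ofMul z, by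
    rw [map_smul, hf1, smul_eq_mul, mul_one]⟩
  have hker : Module.finrank (ZMod 2) (LinearMap.ker f) = Module.finrank (ZMod 2) (Fin n → ZMod 2) := by
    have h1 := LinearMap.finrank_range_add_finrank_ker f
    rw [hsurj, finrank_top, Module.finrank_self, hrank] at h1
    rw [Module.finrank_fin_fun]
    omega
  let φ : LinearMap.ker f ≃ₗ[ZMod 2] (Fin n → ZMod 2) := LinearEquiv.ofFinrankEq _ _ hker
  have hmem : ∀ u, u + f u • Additive.ofMul z ∈ LinearMap.ker f := fun u => by
    rw [LinearMap.mem_ker, map_add, map_smul, hf1, smul_eq_mul, mul_one, CharTwo.add_self_eq_zero]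
  let F : Additive U ≃+ V n :=
    { toFun := fun u => (f u, φ ⟨u + f u • Additive.ofMul z, hmem u⟩)
      invFun := fun p => p.1 • Additive.ofMul z + (φ.symm p.2 : Additive U)
      left_inv := fun u => by
        simp only [LinearEquiv.symm_apply_apply]
        rw [add_left_comm, ← add_smul, CharTwo.add_self_eq_zero, zero_smul, add_zero]
      right_inv := fun p => by
        have hk : f (φ.symm p.2 : Additive U) = 0 := (φ.symm p.2).2
        have h1 : f (p.1 • Additive.ofMul z + (φ.symm p.2 : Additive U)) = p.1 := by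
          rw [map_add, map_smul, hf1, hk, add_zero, smul_eq_mul, mul_one]
        refine Prod.ext h1 ?_
        show φ ⟨_, hmem _⟩ = p.2
        rw [← LinearEquiv.eq_symm_apply φ]
        refine Subtype.ext ?_
        show _ + f _ • _ = ((φ.symm p.2 : LinearMap.ker f) : Additive U)
        rw [h1, add_right_comm, ← add_smul, CharTwo.add_self_eq_zero, zero_smul, zero_add]
      map_add' := fun u v => by
        refine Prod.ext (map_add f u v) ?_
        show φ ⟨_, _⟩ = φ ⟨_, _⟩ + φ ⟨_, _⟩
        rw [← map_add]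
        refine congrArg φ (Subtype.ext ?_)
        show u + v + f (u + v) • _ = _ + _
        rw [map_add, add_smul, add_add_add_comm] }
  refine ⟨AddEquiv.toMultiplicativeRight F, ?_⟩
  show F (Additive.ofMul z) = z0 n
  refine Prod.ext hf1 ?_
  show φ ⟨_, _⟩ = 0
  rw [LinearEquiv.map_eq_zero_iff]
  refine Subtype.ext ?_
  show Additive.ofMul z + f (Additive.ofMul z) • Additive.ofMul z = 0
  nth_rewrite 1 [← one_smul (ZMod 2) (Additive.ofMul z)]
  rw [hf1, ← add_smul, CharTwo.add_self_eq_zero, zero_smul]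

theorem exists_coords (U M : Subgroup G) [hn : U.Normal] (hUM' : U ⊔ M = ⊤)
    (hfaith : ∀ m ∈ M, (∀ u ∈ U, m * u * m⁻¹ = u) → m = 1)
    (hfull : ∀ φ : ↥U ≃* ↥U, ∃ m ∈ M, ∀ u : ↥U, ((φ u : ↥U) : G) = m * u * m⁻¹)
    (hUc : ∀ a ∈ U, ∀ b ∈ U, a * b = b * a)
    (e : U ≃* Multiplicative (V n)) : ∃ c : Coords G n, c.U = U ∧ c.z = (e.symm (Multiplicative.ofAdd (z0 n)) : U) := by
  let conjU : G → V n →+ V n := fun x =>
    { toFun := fun v => (e ⟨x * e.symm (Multiplicative.ofAdd v) * x⁻¹, hn.conj_mem _ (e.symm _).2 x⟩).toAdd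
      map_zero' := by
        have h1 : (⟨x * e.symm (Multiplicative.ofAdd (0 : V n)) * x⁻¹, hn.conj_mem _ (e.symm _).2 x⟩ : U) = 1 :=
          Subtype.ext (by simp)
        rw [h1, map_one, toAdd_one]
      map_add' := fun v w => by
        rw [← toAdd_mul, ← map_mul]
        congr 2
        refine Subtype.ext ?_
        show x * ((e.symm (Multiplicative.ofAdd v * Multiplicative.ofAdd w) : U) : G) * x⁻¹ = _
        rw [map_mul, Subgroup.coe_mul, Subgroup.coe_mul]
        group }
  have hspec : ∀ (x : G) (u : U), conjU x (e u).toAdd = (e ⟨x * u * x⁻¹, hn.conj_mem u u.2 x⟩).toAdd := fun x u => by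
    show (e ⟨x * e.symm (Multiplicative.ofAdd (e u).toAdd) * x⁻¹, _⟩).toAdd = _
    congr 2
    exact Subtype.ext (by rw [ofAdd_toAdd, e.symm_apply_apply])
  have hsurjV : ∀ v : V n, ∃ u : U, (e u).toAdd = v := fun v =>
    ⟨e.symm (Multiplicative.ofAdd v), congrArg Multiplicative.toAdd (e.apply_symm_apply _)⟩
  have hmul : ∀ x y v, conjU (x * y) v = conjU x (conjU y v) := fun x y v => by
    obtain ⟨u, rfl⟩ := hsurjV v
    rw [hspec, hspec, hspec]
    congr 2
    exact Subtype.ext (by
      show x * y * (u : G) * (x * y)⁻¹ = x * (y * (u : G) * y⁻¹) * x⁻¹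
      group)
  have hone : ∀ v, conjU 1 v = v := fun v => by
    obtain ⟨u, rfl⟩ := hsurjV v
    rw [hspec]
    congr 2
    exact Subtype.ext (by simp)
  let act : G →* (V n ≃ₗ[ZMod 2] V n) :=
    { toFun := fun x => LinearEquiv.ofLinear ((conjU x).toZModLinearMap 2) ((conjU x⁻¹).toZModLinearMap 2)
        (LinearMap.ext fun v => (hmul x x⁻¹ v).symm.trans (by rw [mul_inv_cancel]; exact hone v))
        (LinearMap.ext fun v => (hmul x⁻¹ x v).symm.trans (by rw [inv_mul_cancel]; exact hone v))
      map_one' := LinearEquiv.toLinearMap_injective (LinearMap.ext fun v => hone v)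
      map_mul' := fun x y => LinearEquiv.toLinearMap_injective (LinearMap.ext fun v => hmul x y v) }
  have hactU : ∀ x ∈ U, act x = 1 := fun x hx => LinearEquiv.toLinearMap_injective (LinearMap.ext fun v => by
    obtain ⟨u, rfl⟩ := hsurjV v
    refine (hspec x u).trans ?_
    show _ = (e u).toAdd
    congr 2
    exact Subtype.ext (by
      show x * (u : G) * x⁻¹ = u
      rw [hUc x hx u u.2, mul_inv_cancel_right]))
  have hker : ∀ x, act x = 1 → x ∈ U := by
    intro x hx
    have hmem : x ∈ U ⊔ M := hUM'.symm ▸ mem_top x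
    obtain ⟨u, hu, m, hm, rfl⟩ := mem_sup_of_normal_left.1 hmem
    rw [map_mul, hactU u hu, one_mul] at hx
    have h1 : m = 1 := hfaith m hm fun y hy => by
      have h2 := hspec m ⟨y, hy⟩
      have h3 : conjU m (e ⟨y, hy⟩).toAdd = (e ⟨y, hy⟩).toAdd :=
        congrArg (fun f : V n ≃ₗ[ZMod 2] V n => f (e ⟨y, hy⟩).toAdd) hx
      rw [h3] at h2
      exact congrArg Subtype.val (e.injective (Multiplicative.toAdd.injective h2)).symm
    rw [h1, mul_one]
    exact hu
  have hex : ∀ s : V n ≃ₗ[ZMod 2] V n, ∃! m, m ∈ M ∧ act m = s := by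
    intro s
    let φ : U ≃* U := (e.trans s.toAddEquiv.toMultiplicative).trans e.symm
    obtain ⟨m, hm, hme⟩ := hfull φ
    refine ⟨m, ⟨hm, LinearEquiv.toLinearMap_injective (LinearMap.ext fun v => ?_)⟩, ?_⟩
    · obtain ⟨u, rfl⟩ := hsurjV v
      refine (hspec m u).trans ?_
      rw [show (⟨m * u * m⁻¹, hn.conj_mem u u.2 m⟩ : U) = φ u from Subtype.ext (hme u).symm]
      simp [φ]
    · rintro m' ⟨hm', hse⟩
      have h1 : m' * m⁻¹ = 1 := hfaith _ (mul_mem hm' (inv_mem hm)) fun y hy => by
        have h2 := congrArg (fun f : V n ≃ₗ[ZMod 2] V n => f (e ⟨m⁻¹ * y * m, by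
          simpa using hn.conj_mem y hy m⁻¹⟩).toAdd) hse
        have hy' : m⁻¹ * y * m ∈ U := by simpa using hn.conj_mem y hy m⁻¹
        have h3 : conjU m' (e ⟨m⁻¹ * y * m, hy'⟩).toAdd = (e (φ ⟨m⁻¹ * y * m, hy'⟩)).toAdd := by
          refine Eq.trans h2 ?_
          simp [φ]
        rw [hspec] at h3
        have h4 := congrArg Subtype.val (e.injective (Multiplicative.toAdd.injective h3))
        rw [hme] at h4
        calc m' * m⁻¹ * y * (m' * m⁻¹)⁻¹ = m' * (m⁻¹ * y * m) * m'⁻¹ := by group
          _ = m * (m⁻¹ * y * m) * m⁻¹ := h4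
          _ = y := by group
      exact mul_inv_eq_one.1 h1
  have hex' : ∀ s, ∃ m, (m ∈ M ∧ act m = s) ∧ ∀ y, y ∈ M ∧ act y = s → m = y := fun s => by
    obtain ⟨m, hm, hu⟩ := hex s
    exact ⟨m, hm, fun y hy => (hu y hy).symm⟩
  choose L hL hLu using hex'
  let lift : (V n ≃ₗ[ZMod 2] V n) →* G :=
    { toFun := L
      map_one' := hLu 1 1 ⟨one_mem M, map_one act⟩
      map_mul' := fun s t => hLu (s * t) (L s * L t) ⟨mul_mem (hL s).1 (hL t).1, by rw [map_mul, (hL s).2, (hL t).2]⟩ }
  refine ⟨⟨U, hn, e, act, hspec, lift, fun s => (hL s).2, hker⟩, rfl, rfl⟩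

end CfsgLib.LargeXS.Affine
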