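import Mathlib
import Cfsg.Agent.Lib.LargeXS.AffineSplit

/-! The centralizer of a subgroup of order two in a split extension by the full automorphism group. -/

set_option autoImplicit false

namespace CfsgLib.LargeXS.Affine

open Subgroup

/-- The linear automorphisms of the coordinate space as a matrix group. -/
def glEquiv (n : ℕ) :
    Matrix.GeneralLinearGroup (Fin n) (ZMod 2) ≃* ((Fin n → ZMod 2) ≃ₗ[ZMod 2] (Fin n → ZMod 2)) :=
  Matrix.GeneralLinearGroup.toLin.trans (LinearMap.GeneralLinearGroup.generalLinearEquiv _ _)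

theorem affine_statement {G : Type*} [Group G] [Finite G] (n : ℕ) (hn : 1 ≤ n) (U M : Subgroup G) [U.Normal]
    (hU : Cfsg.IsElementaryAbelian 2 U) (hUcard : Nat.card ↥U = 2 ^ (n + 1)) (hUM' : U ⊔ M = ⊤)
    (hfaith : ∀ m ∈ M, (∀ u ∈ U, m * u * m⁻¹ = u) → m = 1)
    (hfull : ∀ φ : ↥U ≃* ↥U, ∃ m ∈ M, ∀ u : ↥U, ((φ u : ↥U) : G) = m * u * m⁻¹)
    (z : G) (hzU : z ∈ U) (hz : z ≠ 1) :
    ∃ c : Coords G n, c.U = U ∧ c.z = z := by
  obtain ⟨e, he⟩ := exists_equiv U hU hUcard ⟨z, hzU⟩ fun h => hz (congrArg Subtype.val h)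
  obtain ⟨c, hcU, hcz⟩ := exists_coords U M hUM' hfaith hfull
    (fun a ha b hb => congrArg Subtype.val (hU.1.is_comm.comm (⟨a, ha⟩ : U) ⟨b, hb⟩)) e
  refine ⟨c, hcU, hcz.trans ?_⟩
  rw [show Multiplicative.ofAdd (z0 n) = e ⟨z, hzU⟩ from he ▸ ofAdd_toAdd _, e.symm_apply_apply]

theorem split_centralizer {G : Type*} [Group G] [Finite G] (n : ℕ) (hn : 1 ≤ n) (U M : Subgroup G) [U.Normal]
    (hU : Cfsg.IsElementaryAbelian 2 U) (hUcard : Nat.card ↥U = 2 ^ (n + 1)) (hUM' : U ⊔ M = ⊤)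
    (hfaith : ∀ m ∈ M, (∀ u ∈ U, m * u * m⁻¹ = u) → m = 1)
    (hfull : ∀ φ : ↥U ≃* ↥U, ∃ m ∈ M, ∀ u : ↥U, ((φ u : ↥U) : G) = m * u * m⁻¹)
    (Z : Subgroup G) (hZU : Z ≤ U) (hZ : Nat.card ↥Z = 2) (Q : Subgroup G)
    (hQ : Q = (Cfsg.pCore 2 ↥(centralizer (Z : Set G))).map (centralizer (Z : Set G)).subtype) :
    Cfsg.IsExtraspecial 2 ↥Q ∧ Nat.card ↥Q = 2 ^ (2 * n + 1) ∧
      (∃ E : Subgroup G, E ≤ Q ∧ Cfsg.IsElementaryAbelian 2 E ∧ Nat.card ↥E = 2 ^ (n + 1)) ∧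
      Cfsg.IsLargeExtraspecial Q ∧
      ∃ K : Subgroup G, K ≤ centralizer (Z : Set G) ∧ Q ⊓ K = ⊥ ∧ Q ⊔ K = centralizer (Z : Set G) ∧
        Nonempty (↥K ≃* Matrix.GeneralLinearGroup (Fin n) (ZMod 2)) := by
  obtain ⟨z, hz1, huniq⟩ := (Nat.card_eq_two_iff' (1 : Z)).1 hZ
  have hZz : Z = zpowers (z : G) := by
    refine (eq_of_le_of_card_ge (zpowers_le.2 z.2) ?_).symm
    rw [hZ, Nat.card_zpowers, orderOf_coe]
    by_contra hlt
    exact hz1 (orderOf_eq_one_iff.1 (by have := orderOf_pos z; omega))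
  obtain ⟨c, -, hc⟩ := affine_statement n hn U M hU hUcard hUM' hfaith hfull z (hZU z.2)
    fun h => hz1 (Subtype.ext h)
  have hC : centralizer (Z : Set G) = centralizer ({c.z} : Set G) := by
    rw [hZz, hc, zpowers_eq_closure, centralizer_closure]
  rw [hC, c.pCore_eq hn] at hQ
  rw [hQ, hC]
  obtain ⟨k⟩ := c.K_equiv
  exact ⟨c.isExtraspecial hn, c.card_Q, c.elementary, c.large hn, c.K, c.K_le, c.inf_K, c.sup_K,
    ⟨k.trans (glEquiv n).symm⟩⟩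

end CfsgLib.LargeXS.Affine
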