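import Mathlib
import Cfsg.Agent.Lib.Fusion.ThompsonTransfer

/-! Transfer at a central involution of a self-normalizing Sylow subgroup. -/

set_option autoImplicit false

namespace CfsgLib.LargeXS

open Subgroup MulAction CfsgLib.ThompsonTransfer

variable {G : Type*} [Group G] [Finite G]

/-- A central involution of a self-normalizing Sylow 2-subgroup outside a subgroup of index two of it lies outside
a normal subgroup of index two. -/
theorem exists_index_two_of_central (P : Sylow 2 G) (hN : normalizer (P : Set G) ≤ P) (Q : Subgroup G)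
    (hQi : Q.relIndex P = 2) (u : G) (hu : u ^ 2 = 1) (huP : u ∈ P) (huQ : u ∉ Q)
    (hc : ∀ p ∈ P, p * u = u * p) : ∃ M : Subgroup G, M.Normal ∧ M.index = 2 := by
  classical
  haveI : Fact (Nat.Prime 2) := ⟨Nat.prime_two⟩
  set H : Subgroup G := (P : Subgroup G) with hH
  let φ : H →* ℤˣ := indexTwoSign (Q.subgroupOf H) hQi
  let f : G →* ℤˣ := MonoidHom.transfer φ
  let := H.fintypeQuotientOfFiniteIndex
  have hconjP : ∀ k : G, ∀ p ∈ H, k ∈ H → p * k * p⁻¹ ∈ H := fun k p hp hk =>
    H.mul_mem (H.mul_mem hp hk) (H.inv_mem hp)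
  have hφconj : ∀ (k : H) (p : H), φ (p * k * p⁻¹) = φ k := fun k p => by
    rw [map_mul, map_mul, map_inv, mul_comm (φ p), mul_inv_cancel_right]
  -- the sign attached to a coset
  let sgn : G → ℤˣ := fun g => if h : g⁻¹ * u * g ∈ H then φ ⟨g⁻¹ * u * g, h⟩ else 1
  have hsgn : ∀ g, ∀ p ∈ H, sgn (g * p) = sgn g := by
    intro g p hp
    have e : (g * p)⁻¹ * u * (g * p) = p⁻¹ * (g⁻¹ * u * g) * p⁻¹⁻¹ := by group
    by_cases h : g⁻¹ * u * g ∈ H
    · have h' : (g * p)⁻¹ * u * (g * p) ∈ H := e ▸ hconjP _ _ (H.inv_mem hp) h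
      simp only [sgn, dif_pos h, dif_pos h']
      rw [← hφconj ⟨_, h⟩ ⟨p⁻¹, H.inv_mem hp⟩]
      congr 1
      exact Subtype.ext e
    · have h' : ¬ (g * p)⁻¹ * u * (g * p) ∈ H := fun h' => h (by
        have := hconjP _ p hp h'
        rwa [e, show p * (p⁻¹ * (g⁻¹ * u * g) * p⁻¹⁻¹) * p⁻¹ = g⁻¹ * u * g by group] at this)
      simp only [sgn, dif_neg h, dif_neg h']
  have hsgn' : ∀ g, ∀ p ∈ H, sgn (p * g) = sgn g := by
    intro g p hp
    have e : (p * g)⁻¹ * u * (p * g) = g⁻¹ * u * g := by
      rw [mul_inv_rev, show g⁻¹ * p⁻¹ * u * (p * g) = g⁻¹ * (p⁻¹ * (u * p)) * g by group, ← hc p hp]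
      group
    simp only [sgn, e]
  let ε : G ⧸ H → ℤˣ := fun x => sgn x.out
  have hε : ∀ g : G, ε (QuotientGroup.mk g) = sgn g := fun g => by
    obtain ⟨p, hp⟩ := QuotientGroup.mk_out_eq_mul H g
    show sgn (QuotientGroup.mk g : G ⧸ H).out = _
    rw [hp]; exact hsgn g p p.2
  have hεfix : ∀ x : G ⧸ H, u • x ≠ x → ε x = 1 := by
    intro x hx
    refine dif_neg fun h => hx ?_
    rw [← QuotientGroup.out_eq' x, MulAction.Quotient.smul_mk, QuotientGroup.eq]
    rw [show (u • x.out)⁻¹ * x.out = (x.out⁻¹ * u * x.out)⁻¹ by rw [smul_eq_mul]; group]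
    exact H.inv_mem h
  let S : Set (G ⧸ H) := {x | ε x = -1}
  have hSfix : ∀ x ∈ S, u • x = x := fun x hx => by
    by_contra hne
    have : ε x = -1 := hx
    rw [hεfix x hne] at this
    exact absurd this (by decide)
  -- the transfer
  have hfu : f u = (-1 : ℤˣ) ^ S.ncard := by
    show MonoidHom.transfer φ u = _
    rw [MonoidHom.transfer_eq_prod_quotient_orbitRel_zpowers_quot]
    have hterm : ∀ q : Quotient (orbitRel (zpowers u) (G ⧸ H)),
        φ ⟨q.out.out⁻¹ * u ^ Function.minimalPeriod (u • ·) q.out * q.out.out,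
            QuotientGroup.out_conj_pow_minimalPeriod_mem H u q.out⟩ = ε q.out := by
      intro q
      have hper : Function.IsPeriodicPt (u • ·) 2 q.out := by
        show (u • ·)^[2] q.out = q.out
        rw [smul_iterate]
        simp [hu]
      rcases (Nat.dvd_prime Nat.prime_two).1 hper.minimalPeriod_dvd with h | h
      · have hm : q.out.out⁻¹ * u * q.out.out ∈ H := by
          have := QuotientGroup.out_conj_pow_minimalPeriod_mem H u q.out
          rwa [h, pow_one] at this
        simp only [ε, sgn, dif_pos hm]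
        congr 1
        apply Subtype.ext
        show q.out.out⁻¹ * u ^ Function.minimalPeriod (u • ·) q.out * q.out.out = _
        rw [h, pow_one]
      · have h1 : (⟨q.out.out⁻¹ * u ^ Function.minimalPeriod (u • ·) q.out * q.out.out,
            QuotientGroup.out_conj_pow_minimalPeriod_mem H u q.out⟩ : H) = 1 := by
          apply Subtype.ext
          show q.out.out⁻¹ * u ^ Function.minimalPeriod (u • ·) q.out * q.out.out = 1
          rw [h, hu, mul_one, inv_mul_cancel]
        rw [h1, map_one]
        refine (hεfix _ fun e => ?_).symm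
        rw [Function.minimalPeriod_eq_one_iff_isFixedPt.2 e] at h
        exact absurd h (by norm_num)
    rw [Finset.prod_congr rfl (fun q _ => hterm q)]
    have hsplit : ∀ q : Quotient (orbitRel (zpowers u) (G ⧸ H)), ε q.out = if q.out ∈ S then -1 else 1 := by
      intro q
      split_ifs with h
      · exact h
      · exact (Int.units_eq_one_or _).resolve_right h
    rw [Finset.prod_congr rfl (fun q _ => hsplit q), Finset.prod_ite, Finset.prod_const, Finset.prod_const_one,
      mul_one, Set.ncard_eq_toFinset_card' S]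
    congr 1
    refine Finset.card_nbij (fun q => q.out) ?_ ?_ ?_
    · intro q hq
      simpa using (Finset.mem_filter.1 hq).2
    · intro q _ q' _ h
      rw [← Quotient.out_eq q, ← Quotient.out_eq q']
      exact congrArg _ h
    · intro x hx
      have hx' : x ∈ S := by simpa using hx
      have hout : (Quotient.mk'' x : Quotient (orbitRel (zpowers u) (G ⧸ H))).out = x := by
        have h1 : ((Quotient.mk'' x : Quotient (orbitRel (zpowers u) (G ⧸ H))).out) ∈ orbit (zpowers u) x :=
          orbitRel_apply.1 (Quotient.exact'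
            (Quotient.out_eq' (Quotient.mk'' x : Quotient (orbitRel (zpowers u) (G ⧸ H)))))
        obtain ⟨⟨_, k, rfl⟩, hk⟩ := h1
        rw [← hk]
        have hfix : u ∈ stabilizer G x := hSfix x hx'
        exact (Subgroup.zpow_mem _ hfix k : u ^ k ∈ stabilizer G x)
      exact ⟨Quotient.mk'' x, by simp [hout, hx'], hout⟩
  -- parity
  have hodd : Odd S.ncard := by
    let SM : SubMulAction H (G ⧸ H) :=
      { carrier := S
        smul_mem' := fun p x hx => by
          show ε ((p : G) • x) = -1
          rw [← QuotientGroup.out_eq' x, MulAction.Quotient.smul_mk, smul_eq_mul, hε,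
            hsgn' _ _ p.2]
          rw [← hx]}
    have h1 := (P.2 : IsPGroup 2 H).card_modEq_card_fixedPoints SM
    have h2 : Nat.card (fixedPoints H SM) = 1 := by
      have hone : ε (QuotientGroup.mk 1) = -1 := by
        rw [hε]
        simp only [sgn, inv_one, one_mul, mul_one, dif_pos (show u ∈ H from huP)]
        exact indexTwoSign_eq_neg_one hQi huQ
      rw [Nat.card_eq_one_iff_unique]
      refine ⟨⟨fun x y => ?_⟩, ⟨⟨⟨QuotientGroup.mk 1, hone⟩, fun p => Subtype.ext ?_⟩⟩⟩
      · have key : ∀ x : fixedPoints H SM, (x.1.1 : G ⧸ H) = QuotientGroup.mk 1 := by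
          intro x
          have hx : ∀ p : H, p • x.1.1 = x.1.1 := fun p => congrArg Subtype.val (x.2 p)
          obtain ⟨g, hg⟩ := QuotientGroup.mk_surjective x.1.1
          rw [← hg] at hx ⊢
          have hsub : ∀ p ∈ H, g⁻¹ * p * g ∈ H := fun p hp => by
            have : (p⁻¹ : G) • (QuotientGroup.mk g : G ⧸ H) = QuotientGroup.mk g := hx ⟨p⁻¹, H.inv_mem hp⟩
            rw [MulAction.Quotient.smul_mk, smul_eq_mul, QuotientGroup.eq,
              show (p⁻¹ * g)⁻¹ * g = g⁻¹ * p * g by group] at this
            exact this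
          have hn : g⁻¹ ∈ normalizer (H : Set G) := by
            refine mem_normalizer_fintype fun p hp => ?_
            rw [inv_inv]
            exact hsub p hp
          rw [QuotientGroup.eq]
          simpa using hN hn
        exact Subtype.ext (Subtype.ext ((key x).trans (key y).symm))
      · show (p : G) • (QuotientGroup.mk 1 : G ⧸ H) = QuotientGroup.mk 1
        rw [MulAction.Quotient.smul_mk, smul_eq_mul, mul_one, QuotientGroup.eq, mul_one]
        exact H.inv_mem p.2
    rw [h2] at h1
    rw [← Nat.card_coe_set_eq, Nat.odd_iff]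
    exact h1
  rw [hodd.neg_one_pow] at hfu
  refine ⟨f.ker, inferInstance, ?_⟩
  have hsurj : Function.Surjective f := fun z => by
    rcases Int.units_eq_one_or z with rfl | rfl
    · exact ⟨1, map_one f⟩
    · exact ⟨u, hfu⟩
  rw [Subgroup.index, Nat.card_congr (QuotientGroup.quotientKerEquivOfSurjective f hsurj).toEquiv,
    Nat.card_eq_fintype_card, Fintype.card_units_int]

end CfsgLib.LargeXS
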