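import Mathlib
import Cfsg.Prelude.Def_MonsterType
import Cfsg.Agent.Lib.Components.GenFitting
import Cfsg.Agent.Lib.KSteps.GFit
import Cfsg.Agent.Lib.LargeXSpecial.Pair

/-! Simplicity criteria for a group with an involution whose centralizer has extraspecial generalized Fitting
subgroup. -/

set_option autoImplicit false

namespace CfsgLib.LargeXS

open Subgroup

variable {G : Type*} [Group G] [Finite G]

/-- `Q` is extraspecial, is normal in `C(z)`, and is self-centralizing there. -/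
structure Base (Q : Subgroup G) (z : G) : Prop where
  extra : Cfsg.IsExtraspecial 2 Q
  center_eq : (Subgroup.center Q).map Q.subtype = Subgroup.zpowers z
  cent : centralizer (Q : Set G) = (Subgroup.center Q).map Q.subtype
  norm : centralizer (((Subgroup.center Q).map Q.subtype : Subgroup G) : Set G) ≤ normalizer (Q : Set G)

theorem base_of {z : G} (hz : orderOf z = 2) {Q : Subgroup G}
    (hQC : Q ≤ centralizer ({z} : Set G))
    (hF : (Cfsg.generalizedFittingSubgroup ↥(centralizer ({z} : Set G))).map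
      (centralizer ({z} : Set G)).subtype = Q)
    (hQ : Cfsg.IsExtraspecial 2 ↥Q) : Base Q z := by
  set C := centralizer ({z} : Set G) with hC
  set F := Cfsg.generalizedFittingSubgroup ↥C with hFdef
  have hcen : ∀ x ∈ C, (∀ q ∈ Q, q * x = x * q) → x ∈ Q := by
    intro x hx hxq
    rw [← hF]
    refine ⟨⟨x, hx⟩, Components.centralizer_genFitting_le (mem_centralizer_iff.2 fun q hq => ?_), rfl⟩
    exact Subtype.ext (hxq q (hF ▸ ⟨q, hq, rfl⟩))
  have hzQ : z ∈ Q := hcen z (mem_centralizer_singleton_iff.2 rfl) fun q hq =>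
    mem_centralizer_singleton_iff.1 (hQC hq)
  have hzZ : z ∈ (Subgroup.center Q).map Q.subtype :=
    ⟨⟨z, hzQ⟩, mem_center_iff.2 fun q => Subtype.ext (mem_centralizer_singleton_iff.1 (hQC q.2)), rfl⟩
  have hcenter : (Subgroup.center Q).map Q.subtype = Subgroup.zpowers z :=
    (eq_of_le_of_card_ge (zpowers_le.2 hzZ)
      (by rw [Nat.card_zpowers, hz, card_map_of_injective Q.subtype_injective, hQ.2])).symm
  refine ⟨hQ, hcenter, le_antisymm ?_ ?_, ?_⟩
  · intro x hx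
    have hxC : x ∈ C := mem_centralizer_singleton_iff.2 (mem_centralizer_iff.1 hx z hzQ).symm
    have hxQ := hcen x hxC fun q hq => mem_centralizer_iff.1 hx q hq
    exact ⟨⟨x, hxQ⟩, mem_center_iff.2 fun q => Subtype.ext (mem_centralizer_iff.1 hx q q.2), rfl⟩
  · rintro _ ⟨x, hx, rfl⟩
    exact mem_centralizer_iff.2 fun q hq => congrArg Subtype.val (mem_center_iff.1 hx ⟨q, hq⟩)
  · rw [centralizer_zpowers hcenter, ← hC]
    intro x hx
    have hFn : F.Normal := KSteps.gfit_normal _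
    refine mem_normalizer_iff.2 fun q => ⟨fun hq => ?_, fun hq => ?_⟩
    · rw [← hF] at hq ⊢
      obtain ⟨y, hy, rfl⟩ := hq
      exact ⟨_, hFn.conj_mem y hy ⟨x, hx⟩, rfl⟩
    · rw [← hF] at hq ⊢
      obtain ⟨y, hy, he⟩ := hq
      refine ⟨_, hFn.conj_mem y hy ⟨x, hx⟩⁻¹, ?_⟩
      simp only [coe_subtype, coe_mul, InvMemClass.coe_inv, inv_inv]
      rw [show ((y : C) : G) = x * q * x⁻¹ from he]
      group

namespace Base

variable {Q : Subgroup G} {z : G} (h : Base Q z)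

include h

theorem pair : XPair Q z := xpair_of h.extra h.cent h.norm h.center_eq

/-- A Sylow 2-subgroup inside the centralizer, containing its normalizer. -/
theorem exists_sylow : ∃ S : Sylow 2 G, (S : Subgroup G) ≤ centralizer ({z} : Set G) ∧
    normalizer (S : Set G) ≤ centralizer ({z} : Set G) := by
  haveI : Fact (Nat.Prime 2) := ⟨Nat.prime_two⟩
  obtain ⟨S, hS⟩ := h.pair.two.exists_le_sylow
  have hcen : ∀ y ∈ (S : Subgroup G), (∀ s ∈ (S : Subgroup G), s * y = y * s) → y = 1 ∨ y = z :=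
    fun y _ hy => h.pair.selfCent y fun q hq => hy q (hS hq)
  have hSne : (S : Subgroup G) ≠ ⊥ := fun e => h.pair.ne_one (by
    have := hS h.pair.mem
    rwa [e, mem_bot] at this)
  haveI : Nontrivial ↥(S : Subgroup G) := (nontrivial_iff_ne_bot _).2 hSne
  haveI := S.2.center_nontrivial
  obtain ⟨⟨c, hc⟩, hc1⟩ := exists_ne (1 : Subgroup.center ↥(S : Subgroup G))
  have hzc : ∀ s ∈ (S : Subgroup G), s * z = z * s := by
    have e : (c : G) = z := (hcen c c.2 fun s hs => congrArg Subtype.val (mem_center_iff.1 hc ⟨s, hs⟩)).resolve_left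
      fun e => hc1 (Subtype.ext (Subtype.ext e))
    intro s hs
    rw [← e]
    exact congrArg Subtype.val (mem_center_iff.1 hc ⟨s, hs⟩)
  refine ⟨S, fun s hs => mem_centralizer_singleton_iff.2 (hzc s hs), fun g hg => ?_⟩
  have hmem : g * z * g⁻¹ ∈ (S : Subgroup G) := (mem_normalizer_iff.1 hg z).1 (hS h.pair.mem)
  have hcomm : ∀ s ∈ (S : Subgroup G), s * (g * z * g⁻¹) = g * z * g⁻¹ * s := by
    intro s hs
    have h1 : g⁻¹ * s * g ∈ (S : Subgroup G) := by
      have := (mem_normalizer_iff.1 (inv_mem hg) s).1 hs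
      rwa [inv_inv] at this
    calc s * (g * z * g⁻¹) = g * ((g⁻¹ * s * g) * z) * g⁻¹ := by group
      _ = g * (z * (g⁻¹ * s * g)) * g⁻¹ := by rw [hzc _ h1]
      _ = _ := by group
  rcases hcen _ hmem hcomm with e | e
  · exact absurd (conj_eq_one_iff.1 e) h.pair.ne_one
  · exact mem_centralizer_singleton_iff.2 (mul_inv_eq_iff_eq_mul.1 e)

theorem eq_top_of_le (N : Subgroup G) [N.Normal] (hN : centralizer ({z} : Set G) ≤ N) : N = ⊤ := by
  haveI : Fact (Nat.Prime 2) := ⟨Nat.prime_two⟩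
  obtain ⟨S, hS, hSn⟩ := h.exists_sylow
  have h1 := Sylow.normalizer_sup_eq_top' S (hS.trans hN)
  rw [eq_top_iff, ← h1]
  exact sup_le (hSn.trans hN) le_rfl

variable {N : Subgroup G} [N.Normal]

theorem eq_one_of_mem_centralizer (hzN : z ∉ N) {x : G} (hxN : x ∈ N) (hxz : x * z = z * x) : x = 1 := by
  have hQN : ∀ y ∈ Q, y ∈ N → y = 1 := by
    intro y hy hyN
    by_contra hy1
    by_cases hyz : y = z
    · exact hzN (hyz ▸ hyN)
    obtain ⟨q, hq, hqy⟩ := h.pair.exists_conj_eq_mul hy hy1 hyz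
    have h1 := mul_mem (inv_mem hyN) ((inferInstance : N.Normal).conj_mem y hyN q)
    rw [hqy, inv_mul_cancel_left] at h1
    exact hzN h1
  rcases h.pair.selfCent x (fun q hq => by
    have h1 : x * q * x⁻¹ * q⁻¹ ∈ Q := mul_mem (h.pair.norm x hxz q hq) (inv_mem hq)
    have h2 : x * q * x⁻¹ * q⁻¹ ∈ N := by
      have := mul_mem hxN ((inferInstance : N.Normal).conj_mem _ (inv_mem hxN) q)
      simpa [mul_assoc] using this
    exact (mul_inv_eq_iff_eq_mul.1 (mul_inv_eq_one.1 (hQN _ h1 h2))).symm) with e | e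
  · exact e
  · exact absurd (e ▸ hxN) hzN

theorem inverts (hzN : z ∉ N) : (∀ g : G, ∀ x ∈ N, g * z * g⁻¹ * x * (g * z * g⁻¹)⁻¹ = x⁻¹) ∧
    Odd (Nat.card N) := by
  let ψ : N →* N :=
    { toFun := fun k => ⟨z * k * z⁻¹, (inferInstance : N.Normal).conj_mem _ k.2 z⟩
      map_one' := by ext; simp
      map_mul' := fun a b => by ext; simp [mul_assoc] }
  have h1 : MonoidHom.FixedPointFree ψ := fun a ha => Subtype.ext
    (h.eq_one_of_mem_centralizer hzN a.2 (mul_inv_eq_iff_eq_mul.1 (congrArg Subtype.val ha)).symm)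
  have h2 : Function.Involutive ψ := fun a => Subtype.ext (by
    show z * (z * (a : G) * z⁻¹) * z⁻¹ = a
    calc z * (z * (a : G) * z⁻¹) * z⁻¹ = (z * z) * a * (z * z)⁻¹ := by group
      _ = a := by rw [h.pair.mul_self]; group)
  refine ⟨fun g x hx => ?_, h1.odd_card_of_involutive h2⟩
  have hm : g⁻¹ * x * g ∈ N := by simpa using (inferInstance : N.Normal).conj_mem x hx g⁻¹
  have h3 : z * (g⁻¹ * x * g) * z⁻¹ = (g⁻¹ * x * g)⁻¹ :=
    congrArg Subtype.val (congrFun (h1.coe_eq_inv_of_involutive h2) ⟨_, hm⟩)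
  calc g * z * g⁻¹ * x * (g * z * g⁻¹)⁻¹ = g * (z * (g⁻¹ * x * g) * z⁻¹) * g⁻¹ := by group
    _ = x⁻¹ := by rw [h3]; group

theorem eq_one_of_sq (hzN : z ∉ N) {x : G} (hx : x ∈ N) (hx2 : x⁻¹ = x) : x = 1 := by
  refine h.eq_one_of_mem_centralizer hzN hx ?_
  have h1 := (h.inverts hzN).1 1 x hx
  rw [one_mul, inv_one, mul_one, hx2] at h1
  exact (mul_inv_eq_iff_eq_mul.1 h1).symm

/-- A conjugate of `z` in `Q` other than `z` forces a normal subgroup avoiding `z` to be trivial. -/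
theorem eq_bot_of_conj_mem (hzN : z ∉ N) {g : G} (hgQ : g * z * g⁻¹ ∈ Q) (hne : g * z * g⁻¹ ≠ z) : N = ⊥ := by
  obtain ⟨q, hq, hqv⟩ := h.pair.exists_conj_eq_mul hgQ
    (fun e => h.pair.ne_one (conj_eq_one_iff.1 e)) hne
  rw [eq_bot_iff]
  intro x hx
  refine h.eq_one_of_sq hzN hx ?_
  obtain ⟨hinv, -⟩ := h.inverts hzN
  have e1 := hinv g x⁻¹ (inv_mem hx)
  have e2 := hinv (q * g) x hx
  have e3 := hinv 1 x hx
  rw [one_mul, inv_one, mul_one] at e3
  rw [show q * g * z * (q * g)⁻¹ = q * (g * z * g⁻¹) * q⁻¹ by group, hqv] at e2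
  rw [inv_inv] at e1
  calc x⁻¹ = g * z * g⁻¹ * z * x * (g * z * g⁻¹ * z)⁻¹ := e2.symm
    _ = g * z * g⁻¹ * (z * x * z⁻¹) * (g * z * g⁻¹)⁻¹ := by group
    _ = x := by rw [e3, e1]

/-- An element of `Q` whose centralizer has `z` in its 2-core forces a normal subgroup avoiding `z` to be
trivial, when it acts on the subgroup as a power of the inversion. -/
theorem eq_bot_of_core (hzN : z ∉ N) {u : G} (huQ : u ∈ Q) (huz : u ∉ zpowers z)
    (hact : (∀ x ∈ N, u * x * u⁻¹ = x) ∨ ∀ x ∈ N, u * x * u⁻¹ = x⁻¹)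
    (hzO : ∃ hz' : z ∈ centralizer ({u} : Set G),
      (⟨z, hz'⟩ : ↥(centralizer ({u} : Set G))) ∈ Cfsg.pCore 2 ↥(centralizer ({u} : Set G))) : N = ⊥ := by
  obtain ⟨q, hq, hqu⟩ := h.pair.exists_conj_eq_mul huQ (fun e => huz (e ▸ one_mem _))
    (fun e => huz (e ▸ mem_zpowers u))
  obtain ⟨hinv, hodd⟩ := h.inverts hzN
  have e3 : ∀ x ∈ N, z * x * z⁻¹ = x⁻¹ := fun x hx => by simpa using hinv 1 x hx
  rw [eq_bot_iff]
  intro x hx
  rcases hact with hact | hact
  · obtain ⟨hz', hzO⟩ := hzO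
    have hxc : x ∈ centralizer ({u} : Set G) :=
      mem_centralizer_singleton_iff.2 (mul_inv_eq_iff_eq_mul.1 (hact x hx)).symm
    refine h.eq_one_of_sq hzN hx ?_
    set C := centralizer ({u} : Set G)
    have h1 : (⟨z, hz'⟩ * ⟨x, hxc⟩ * (⟨z, hz'⟩ : C)⁻¹ * (⟨x, hxc⟩ : C)⁻¹) ∈ Cfsg.pCore 2 ↥C := by
      have hn : (Cfsg.pCore 2 ↥C).Normal := inferInstance
      have h0 : ∀ P : Subgroup C, P.Normal → ∀ a b : C, a ∈ P → a * b * a⁻¹ * b⁻¹ ∈ P := fun P hP a b ha => by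
        simpa [mul_assoc] using mul_mem ha (hP.conj_mem _ (inv_mem ha) b)
      exact h0 _ hn ⟨z, hz'⟩ ⟨x, hxc⟩ hzO
    have hh : z * x * z⁻¹ * x⁻¹ = 1 := eq_one_of_mem_odd_two
      (P := (Cfsg.pCore 2 ↥C).map C.subtype) (K := N) ((pCore_isPGroup 2 ↥C).map _) hodd ⟨_, h1, rfl⟩
      (mul_mem ((inferInstance : N.Normal).conj_mem x hx z) (inv_mem hx))
    rw [← e3 x hx]
    exact mul_inv_eq_one.1 hh
  · refine h.eq_one_of_sq hzN hx ?_
    have hm : q⁻¹ * x * q ∈ N := by simpa using (inferInstance : N.Normal).conj_mem x hx q⁻¹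
    have e1 : u * z * x * (u * z)⁻¹ = x⁻¹ := by
      calc u * z * x * (u * z)⁻¹ = q * u * q⁻¹ * x * (q * u * q⁻¹)⁻¹ := by rw [hqu]
        _ = q * (u * (q⁻¹ * x * q) * u⁻¹) * q⁻¹ := by group
        _ = x⁻¹ := by rw [hact _ hm]; group
    calc x⁻¹ = u * (z * x * z⁻¹) * u⁻¹ := by rw [← e1]; group
      _ = x := by rw [e3 x hx, hact _ (inv_mem hx), inv_inv]

theorem isSimpleGroup (h1 : ∀ M : Subgroup G, M.Normal → z ∈ M → centralizer ({z} : Set G) ≤ M)
    (h2 : ∀ M : Subgroup G, M.Normal → z ∉ M → M = ⊥) : IsSimpleGroup G := by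
  haveI : Nontrivial G := ⟨⟨z, 1, h.pair.ne_one⟩⟩
  refine ⟨fun M hM => ?_⟩
  haveI := hM
  by_cases hzM : z ∈ M
  · exact Or.inr (h.eq_top_of_le M (h1 M hM hzM))
  · exact Or.inl (h2 M hM hzM)

end Base

end CfsgLib.LargeXS
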