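import Cfsg.Agent.Lib.LargeXS.Congr
import Cfsg.Agent.Lib.LargeXS.Simple
import Cfsg.Agent.Lib.Components.GenFitting
import Cfsg.Agent.S5422

/-! A large extraspecial subgroup transferred along an isomorphism of involution centralizers. -/

set_option autoImplicit false

namespace CfsgLib.LargeXS

open Subgroup

theorem transfer_centralizer {G G' : Type*} [Group G] [Group G'] [Finite G] [Finite G'] {z : G} {z' : G'}
    (hzo : orderOf z = 2) (e : ↥(centralizer ({z} : Set G)) ≃* ↥(centralizer ({z'} : Set G')))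
    {n : ℕ} (hn : 2 ≤ n) {H : Type*} [Group H] (Q : Subgroup G) (Q' : Subgroup G')
    (hQ : Q = (Cfsg.pCore 2 ↥(centralizer ({z} : Set G))).map (centralizer ({z} : Set G)).subtype)
    (hQ' : Q' = (Cfsg.pCore 2 ↥(centralizer ({z'} : Set G'))).map (centralizer ({z'} : Set G')).subtype)
    (hX : Cfsg.IsExtraspecial 2 ↥Q' ∧ Nat.card ↥Q' = 2 ^ (2 * n + 1) ∧
      (∃ E : Subgroup G', E ≤ Q' ∧ Cfsg.IsElementaryAbelian 2 E ∧ Nat.card ↥E = 2 ^ (n + 1)) ∧
      Cfsg.IsLargeExtraspecial Q' ∧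
      ∃ K : Subgroup G', K ≤ centralizer ({z'} : Set G') ∧ Q' ⊓ K = ⊥ ∧
        Q' ⊔ K = centralizer ({z'} : Set G') ∧ Nonempty (↥K ≃* H))
    (hzQ : z ∈ Q) (k : G) (hkQ : k * z * k⁻¹ ∈ Q) (hkz : k * z * k⁻¹ ≠ z) :
    Cfsg.IsExtraspecial 2 ↥Q ∧ Nat.card ↥Q = 2 ^ (2 * n + 1) ∧
      (∃ E : Subgroup G, E ≤ Q ∧ Cfsg.IsElementaryAbelian 2 E ∧ Nat.card ↥E = 2 ^ (n + 1)) ∧
      Cfsg.IsLargeExtraspecial Q ∧
      ∃ K : Subgroup G, K ≤ centralizer ({z} : Set G) ∧ Q ⊓ K = ⊥ ∧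
        Q ⊔ K = centralizer ({z} : Set G) ∧ Nonempty (↥K ≃* H) := by
  obtain ⟨hE', hcard', ⟨E', hE'Q, hE'e, hE'c⟩, hlarge', K', hK'C, hK'i, hK's, ⟨ψ⟩⟩ := hX
  set C := centralizer ({z} : Set G) with hC
  set C' := centralizer ({z'} : Set G') with hC'
  have hcore : ∀ x : ↥C, x ∈ Cfsg.pCore 2 ↥C ↔ e x ∈ Cfsg.pCore 2 ↥C' := fun x => by
    rw [← Components.pCore_map_equiv 2 e]
    exact (mem_map_iff_mem e.injective).symm
  have hmemQ : ∀ x : ↥C, (x : G) ∈ Q ↔ x ∈ Cfsg.pCore 2 ↥C := fun x => by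
    rw [hQ]; exact mem_map_iff_mem C.subtype_injective
  have hmemQ' : ∀ x : ↥C', (x : G') ∈ Q' ↔ x ∈ Cfsg.pCore 2 ↥C' := fun x => by
    rw [hQ']; exact mem_map_iff_mem C'.subtype_injective
  have hQC : Q ≤ C := hQ ▸ map_subtype_le _
  have hQ'C : Q' ≤ C' := hQ' ▸ map_subtype_le _
  let eQ : ↥Q ≃* ↥Q' :=
    { toFun := fun q => ⟨e ⟨q.1, hQC q.2⟩, (hmemQ' _).2 ((hcore _).1 ((hmemQ _).1 q.2))⟩
      invFun := fun q => ⟨e.symm ⟨q.1, hQ'C q.2⟩, (hmemQ _).2 ((hcore _).2 (by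
        rw [e.apply_symm_apply]; exact (hmemQ' _).1 q.2))⟩
      left_inv := fun q => by simp
      right_inv := fun q => by simp
      map_mul' := fun a b => by
        apply Subtype.ext
        exact (congrArg Subtype.val (e.map_mul ⟨a.1, hQC a.2⟩ ⟨b.1, hQC b.2⟩) :) }
  have hE : Cfsg.IsExtraspecial 2 ↥Q := isExtraspecial_congr eQ.symm hE'
  have hcard : Nat.card ↥Q = 2 ^ (2 * n + 1) := by rw [Nat.card_congr eQ.toEquiv, hcard']
  have hzZ : z ∈ (Subgroup.center Q).map Q.subtype :=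
    ⟨⟨z, hzQ⟩, mem_center_iff.2 fun q => Subtype.ext (mem_centralizer_singleton_iff.1 (hQC q.2)), rfl⟩
  have hcenter : (Subgroup.center Q).map Q.subtype = zpowers z :=
    (eq_of_le_of_card_ge (zpowers_le.2 hzZ)
      (by rw [Nat.card_zpowers, hzo, card_map_of_injective Q.subtype_injective, hE.2])).symm
  have hcent : centralizer (Q : Set G) = (Subgroup.center Q).map Q.subtype := by
    refine le_antisymm (fun x hx => ?_) ?_
    · have hxC : x ∈ C := mem_centralizer_singleton_iff.2 (mem_centralizer_iff.1 hx z hzQ).symm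
      have h1 : (e ⟨x, hxC⟩ : G') ∈ centralizer (Q' : Set G') := mem_centralizer_iff.2 fun q hq => by
        have h2 : e.symm ⟨q, hQ'C hq⟩ * ⟨x, hxC⟩ = ⟨x, hxC⟩ * e.symm ⟨q, hQ'C hq⟩ :=
          Subtype.ext (mem_centralizer_iff.1 hx _ ((eQ.symm ⟨q, hq⟩).2))
        have h3 := congrArg e h2
        rw [map_mul, map_mul, e.apply_symm_apply] at h3
        exact congrArg Subtype.val h3
      rw [hlarge'.2.1] at h1
      have hxQ : x ∈ Q := (hmemQ ⟨x, hxC⟩).2 ((hcore _).2 ((hmemQ' _).1 (map_subtype_le _ h1)))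
      exact ⟨⟨x, hxQ⟩, mem_center_iff.2 fun q => Subtype.ext (mem_centralizer_iff.1 hx q q.2), rfl⟩
    · rintro _ ⟨x, hx, rfl⟩
      exact mem_centralizer_iff.2 fun q hq => congrArg Subtype.val (mem_center_iff.1 hx ⟨q, hq⟩)
  have hnorm : centralizer (((Subgroup.center Q).map Q.subtype : Subgroup G) : Set G) ≤ normalizer (Q : Set G) := by
    rw [centralizer_zpowers hcenter]
    intro g hg
    refine mem_normalizer_fintype fun x hx => ?_
    exact (hmemQ ⟨g * x * g⁻¹, mul_mem (mul_mem hg (hQC hx)) (inv_mem hg)⟩).2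
      ((inferInstance : (Cfsg.pCore 2 ↥C).Normal).conj_mem ⟨x, hQC hx⟩ ((hmemQ _).1 hx) ⟨g, hg⟩)
  have hlarge : Cfsg.IsLargeExtraspecial Q := by
    refine (Cfsg.Agent.S5422.result Q hE hcent hnorm n hn hcard k ?_ ?_).2.2
    · intro hk'
      rw [hcenter] at hk'
      have h1 := (mem_normalizer_iff.1 hk' z).1 (mem_zpowers z)
      rcases (mem_zpowers_iff_eq hE hcenter).1 h1 with e | e
      · rw [conj_eq_one_iff] at e
        rw [e, orderOf_one] at hzo
        omega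
      · exact hkz e
    · rw [hcenter, MonoidHom.map_zpowers, zpowers_le]
      exact hkQ
  refine ⟨hE, hcard, ⟨((E'.subgroupOf C').map e.symm.toMonoidHom).map C.subtype, ?_, ?_, ?_⟩, hlarge,
    ((K'.subgroupOf C').map e.symm.toMonoidHom).map C.subtype, map_subtype_le _, ?_, ?_, ?_⟩
  · rintro _ ⟨_, ⟨a, ha, rfl⟩, rfl⟩
    exact (hmemQ _).2 ((hcore _).2 (by simpa using (hmemQ' a).1 (hE'Q ha)))
  · refine ⟨⟨⟨?_⟩⟩, ?_⟩
    · rintro ⟨_, _, ⟨a, ha, rfl⟩, rfl⟩ ⟨_, _, ⟨b, hb, rfl⟩, rfl⟩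
      have h1 : a * b = b * a := by
        apply Subtype.ext
        exact (congrArg Subtype.val (hE'e.1.is_comm.comm ⟨a, ha⟩ ⟨b, hb⟩) :)
      refine Subtype.ext ?_
      simp only [coe_mul, coe_subtype, MulEquiv.coe_toMonoidHom]
      rw [← coe_mul, ← map_mul, h1, map_mul, coe_mul]
    · rintro _ ⟨_, ⟨a, ha, rfl⟩, rfl⟩
      have h1 : a ^ 2 = 1 := Subtype.ext (by simpa using hE'e.2 a ha)
      rw [← map_pow, ← map_pow, h1, map_one, map_one]
  · rw [card_map_of_injective C.subtype_injective, card_map_of_injective (f := e.symm.toMonoidHom) e.symm.injective,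
      Nat.card_congr (subgroupOfEquivOfLe (hE'Q.trans hQ'C)).toEquiv, hE'c]
  · rw [eq_bot_iff]
    rintro x ⟨hx, _, ⟨a, ha, rfl⟩, rfl⟩
    refine mem_bot.2 ?_
    have h1 : (a : G') ∈ Q' ⊓ K' := ⟨(hmemQ' a).2 (by
      simpa using (hcore _).1 ((hmemQ (e.symm a)).1 hx)), ha⟩
    rw [hK'i, mem_bot] at h1
    rw [show a = 1 from Subtype.ext h1, map_one, map_one]
  · have h1 : Cfsg.pCore 2 ↥C' ⊔ K'.subgroupOf C' = ⊤ := by
      rw [← (map_injective C'.subtype_injective).eq_iff, Subgroup.map_sup, ← hQ',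
        map_subgroupOf_eq_of_le hK'C, hK's, ← MonoidHom.range_eq_map, range_subtype]
    rw [hQ, ← Subgroup.map_sup, ← Components.pCore_map_equiv 2 e.symm, ← Subgroup.map_sup, h1,
      map_top_of_surjective _ e.symm.surjective, ← MonoidHom.range_eq_map, range_subtype]
  · exact ⟨((((K'.subgroupOf C').map e.symm.toMonoidHom).equivMapOfInjective _ C.subtype_injective).symm.trans
      (((K'.subgroupOf C').equivMapOfInjective _ e.symm.injective).symm.trans
        (subgroupOfEquivOfLe hK'C))).trans ψ⟩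

end CfsgLib.LargeXS
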