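import Mathlib
import Cfsg.Agent.Lib.Components.GenFitting
import Cfsg.Agent.Lib.Components.Permute

/-! A component and the join of the others, when the layer has trivial centralizer. -/

set_option autoImplicit false

namespace CfsgLib.LargeXS

open Subgroup CfsgLib.Components

variable {G : Type*} [Group G] {L K : Subgroup G}

/-- The join of the components other than `L`. -/
def others (L : Subgroup G) : Subgroup G := sSup {K | Cfsg.IsComponent K ∧ K ≠ L}

theorem le_others (hK : Cfsg.IsComponent K) (h : K ≠ L) : K ≤ others L := le_sSup ⟨hK, h⟩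

theorem commute_others (hL : Cfsg.IsComponent L) {a b : G} (ha : a ∈ L) (hb : b ∈ others L) :
    a * b = b * a := by
  have h : ⁅L, others L⁆ = ⊥ :=
    commutator_sSup_eq_bot fun K hK => component_commutator_of_ne hL hK.1 hK.2.symm
  exact (commutator_eq_bot_iff_le_centralizer.1 h ha b hb).symm

theorem layer_eq_sup (hL : Cfsg.IsComponent L) : Cfsg.layer G = L ⊔ others L := by
  refine le_antisymm (sSup_le fun K hK => ?_) (sup_le (component_le_layer hL)
    (sSup_le fun K hK => component_le_layer hK.1))
  by_cases h : K = L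
  · exact h ▸ le_sup_left
  · exact (le_others hK h).trans le_sup_right

theorem exists_parts (hL : Cfsg.IsComponent L) {x : G} (hx : x ∈ Cfsg.layer G) :
    ∃ a ∈ L, ∃ b ∈ others L, x = a * b := by
  rw [layer_eq_sup hL] at hx
  have hn : others L ≤ centralizer (L : Set G) := fun b hb =>
    mem_centralizer_iff.2 fun a ha => commute_others hL ha hb
  rw [sup_comm, ← SetLike.mem_coe,
    coe_mul_of_left_le_normalizer_right _ _ (hn.trans (centralizer_le_normalizer _))] at hx
  obtain ⟨b, hb, a, ha, rfl⟩ := hx
  exact ⟨a, ha, b, hb, (commute_others hL ha hb).symm⟩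

theorem map_others_le (g : G) (L : Subgroup G) :
    (others L).map (MulAut.conj g).toMonoidHom ≤ others (L.map (MulAut.conj g).toMonoidHom) :=
  map_sSup_subset _ fun _ hK => ⟨component_map_conj hK.1 g, fun e => hK.2
    (map_injective (MulAut.conj g).injective e)⟩

section

variable (hcent : centralizer (Cfsg.layer G : Set G) = ⊥)
include hcent

theorem eq_one_of_mem_others (hL : Cfsg.IsComponent L) {x : G} (hx : x ∈ L) (hx' : x ∈ others L) :
    x = 1 := by
  refine mem_bot.1 (hcent ▸ mem_centralizer_iff.2 fun y hy => ?_)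
  have hle : Cfsg.layer G ≤ centralizer ({x} : Set G) := by
    rw [layer_eq_sup hL]
    exact sup_le (fun a ha => mem_centralizer_singleton_iff.2 (commute_others hL ha hx'))
      fun b hb => mem_centralizer_singleton_iff.2 (commute_others hL hx hb).symm
  exact mem_centralizer_singleton_iff.1 (hle hy)

theorem parts_unique (hL : Cfsg.IsComponent L) {a a' b b' : G} (ha : a ∈ L) (ha' : a' ∈ L)
    (hb : b ∈ others L) (hb' : b' ∈ others L) (h : a * b = a' * b') : a = a' ∧ b = b' := by
  have h1 : a'⁻¹ * a = b' * b⁻¹ := by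
    calc a'⁻¹ * a = a'⁻¹ * (a * b) * b⁻¹ := by group
      _ = b' * b⁻¹ := by rw [h]; group
  have h2 := eq_one_of_mem_others hcent hL (mul_mem (inv_mem ha') ha) (h1 ▸ mul_mem hb' (inv_mem hb))
  have h3 : a = a' := (inv_mul_eq_one.1 h2).symm
  exact ⟨h3, mul_left_cancel (h3 ▸ h)⟩

theorem isSimpleGroup_component (hL : Cfsg.IsComponent L) :
    IsSimpleGroup L ∧ ¬ IsMulCommutative L := by
  have hc : center L = ⊥ := by
    rw [eq_bot_iff]
    intro x hx
    refine mem_bot.2 (Subtype.ext ?_)
    refine mem_bot.1 (hcent ▸ mem_centralizer_iff.2 fun y hy => ?_)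
    have hle : Cfsg.layer G ≤ centralizer ({(x : G)} : Set G) := by
      rw [layer_eq_sup hL]
      exact sup_le (fun a ha => mem_centralizer_singleton_iff.2
        (congrArg Subtype.val (mem_center_iff.1 hx ⟨a, ha⟩)))
        fun b hb => mem_centralizer_singleton_iff.2 (commute_others hL x.2 hb).symm
    exact mem_centralizer_singleton_iff.1 (hle hy)
  haveI := hL.2.2
  refine ⟨((QuotientGroup.quotientMulEquivOfEq hc).trans QuotientGroup.quotientBot).symm.isSimpleGroup,
    fun h => ?_⟩
  exact component_ne_bot hL (by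
    have h1 : ⁅L, L⁆ = ⊥ := commutator_eq_bot_iff_le_centralizer.2 fun a ha => mem_centralizer_iff.2 fun b hb =>
      congrArg Subtype.val (h.is_comm.comm (⟨b, hb⟩ : L) ⟨a, ha⟩)
    rwa [component_commutator_self hL] at h1)

end

end CfsgLib.LargeXS
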