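import Mathlib
import Cfsg.Agent.Lib.LargeXS.CentralTransfer
import Cfsg.Agent.Lib.Invol.GlaubermanZStar
import Cfsg.Agent.Lib.Invol.Isolated
import Cfsg.Agent.Lib.Invol.Dihedral
import Cfsg.Agent.Lib.PLocal.Constrained
import Cfsg.Agent.Lib.PGroup.Basic
import Cfsg.Agent.Lib.Transfer.Fusion
import Cfsg.Agent.Lib.Fusion.PPowerIndex.Build

/-! A simple group with an involution whose centralizer is a Sylow subgroup with Frattini subgroup of order two. -/

set_option autoImplicit false

universe u

namespace CfsgLib.LargeXS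

open Subgroup

variable {L : Type u} [Group L] [Finite L] [IsSimpleGroup L]

theorem pPrimeCore_eq_bot_of_involution {z : L} (hz : orderOf z = 2) : Cfsg.pPrimeCore 2 L = ⊥ := by
  have hn : (Cfsg.pPrimeCore 2 L).Normal := CfsgLib.Solvable.pPrimeCore_normal 2 L
  rcases hn.eq_bot_or_eq_top with h | h
  · exact h
  · exfalso
    have h1 := CfsgLib.PLoc.pPrimeCore_coprime (G := L) 2
    rw [h, Subgroup.card_top] at h1
    have h2 : orderOf z ∣ Nat.card L := orderOf_dvd_natCard z
    rw [hz] at h2
    exact absurd (Nat.dvd_gcd h2 (dvd_refl 2)) (by rw [h1]; norm_num)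

theorem not_normal_index_two (hL : ¬ IsMulCommutative L) (M : Subgroup L) (hn : M.Normal) : M.index ≠ 2 := by
  intro hM
  rcases hn.eq_bot_or_eq_top with h | h
  · rw [h, Subgroup.index_bot] at hM
    haveI : Fact (Nat.Prime 2) := ⟨Nat.prime_two⟩
    haveI : IsCyclic L := isCyclic_of_prime_card hM
    exact hL IsCyclic.commutative
  · rw [h, Subgroup.index_top] at hM
    exact absurd hM (by norm_num)

theorem dihedral_of_centralizer (hL : ¬ IsMulCommutative L) (z : L) (hz : orderOf z = 2) (R : Sylow 2 L)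
    (hR : (R : Subgroup L) = centralizer ({z} : Set L))
    (hΦ : (frattini ↥(R : Subgroup L)).map (R : Subgroup L).subtype = zpowers z) :
    Nonempty (↥(R : Subgroup L) ≃* DihedralGroup 4) := by
  haveI : Fact (Nat.Prime 2) := ⟨Nat.prime_two⟩
  have hp : IsPGroup 2 ↥(R : Subgroup L) := R.2
  have hz2 : z * z = 1 := by rw [← pow_two, ← hz]; exact pow_orderOf_eq_one z
  have hz1 : z ≠ 1 := fun h => by rw [h, orderOf_one] at hz; exact absurd hz (by norm_num)
  have hzR : z ∈ (R : Subgroup L) := by rw [hR]; exact mem_centralizer_singleton_iff.2 rfl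
  have hmemz : ∀ x ∈ zpowers z, x = 1 ∨ x = z := by
    intro x hx
    obtain ⟨k, rfl⟩ := mem_zpowers_iff.1 hx
    rcases Int.even_or_odd k with ⟨j, rfl⟩ | ⟨j, rfl⟩
    · left; rw [← two_mul, zpow_mul, zpow_two, hz2, one_zpow]
    · right; rw [zpow_add, zpow_mul, zpow_two, hz2, one_zpow, one_mul, zpow_one]
  have hzc : ∀ r ∈ (R : Subgroup L), r * z = z * r := fun r hr => by
    rw [hR] at hr
    exact (mem_centralizer_singleton_iff.1 hr)
  have hfr : ∀ x : ↥(R : Subgroup L), x ∈ frattini ↥(R : Subgroup L) ↔ (x : L) ∈ zpowers z := by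
    intro x
    rw [← hΦ, mem_map]
    exact ⟨fun h => ⟨x, h, rfl⟩, fun ⟨y, hy, e⟩ => (Subtype.ext e : y = x) ▸ hy⟩
  have hcomm : ∀ a ∈ (R : Subgroup L), ∀ b ∈ (R : Subgroup L), a * b * a⁻¹ * b⁻¹ ∈ zpowers z := by
    intro a ha b hb
    have h1 := PGroup.commutator_le_frattini hp
      (Subgroup.commutator_mem_commutator (mem_top (⟨a, ha⟩ : ↥(R : Subgroup L))) (mem_top ⟨b, hb⟩))
    exact (hfr _).1 h1
  have hsq : ∀ a ∈ (R : Subgroup L), a * a ∈ zpowers z := by
    intro a ha
    have h1 := PGroup.pow_mem_frattini hp (⟨a, ha⟩ : ↥(R : Subgroup L))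
    rw [hfr] at h1
    simpa [pow_two] using h1
  have hnorm : normalizer (R : Set L) ≤ R := by
    intro g hg
    rw [hR, mem_centralizer_singleton_iff]
    have hc : ((frattini ↥(R : Subgroup L)).map (R : Subgroup L).subtype).map (MulAut.conj g).toMonoidHom =
        (frattini ↥(R : Subgroup L)).map (R : Subgroup L).subtype := by
      let c : ↥(R : Subgroup L) ≃* ↥(R : Subgroup L) :=
        { toFun := fun x => ⟨g * x * g⁻¹, (mem_normalizer_iff.1 hg x).1 x.2⟩
          invFun := fun x => ⟨g⁻¹ * x * g, by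
            have := (mem_normalizer_iff.1 (inv_mem hg) x).1 x.2
            rwa [inv_inv] at this⟩
          left_inv := fun x => Subtype.ext (by simp [mul_assoc])
          right_inv := fun x => Subtype.ext (by simp [mul_assoc])
          map_mul' := fun x y => Subtype.ext (by simp [mul_assoc]) }
      have hchar : (frattini ↥(R : Subgroup L)).map c.toMonoidHom = frattini ↥(R : Subgroup L) :=
        Subgroup.characteristic_iff_map_eq.1 inferInstance c
      conv_rhs => rw [← hchar]
      rw [map_map, map_map]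
      rfl
    have h1 : g * z * g⁻¹ ∈ zpowers z := by
      rw [← hΦ, ← hc, hΦ]
      exact ⟨z, mem_zpowers z, rfl⟩
    rcases hmemz _ h1 with e | e
    · exact absurd (conj_eq_one_iff.1 e) hz1
    · exact (mul_inv_eq_iff_eq_mul.1 e)
  -- central involutions
  have hcentral : ∀ u ∈ (R : Subgroup L), (∀ r ∈ (R : Subgroup L), r * u = u * r) → u * u = 1 →
      u ∈ zpowers z := by
    intro u hu huc hu2
    by_contra hcon
    have h1 : (⟨u, hu⟩ : ↥(R : Subgroup L)) ∉ frattini ↥(R : Subgroup L) := fun h => hcon ((hfr _).1 h)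
    rw [frattini, Order.radical] at h1
    simp only [mem_iInf, not_forall] at h1
    obtain ⟨M, hM, huM⟩ := h1
    obtain ⟨-, hMi⟩ := Fusion.PPowerIndex.normal_and_index_of_coatom hp hM
    have hQ : (M.map (R : Subgroup L).subtype).relIndex R = 2 := by
      rw [relIndex, subgroupOf, comap_map_eq_self_of_injective (R : Subgroup L).subtype_injective, hMi]
    obtain ⟨N, hNn, hNi⟩ := exists_index_two_of_central R hnorm _ hQ u (by rw [pow_two, hu2]) hu
      (fun ⟨y, hy, e⟩ => huM ((Subtype.ext e : y = ⟨u, hu⟩) ▸ hy)) huc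
    exact not_normal_index_two hL N hNn hNi
  -- a conjugate of z
  obtain ⟨g, hgR, hgz⟩ : ∃ g : L, g * z * g⁻¹ ∈ (R : Subgroup L) ∧ g * z * g⁻¹ ≠ z := by
    by_contra! hall
    have hiso : Cfsg.IsIsolatedInvolution z := Invol.isIsolatedInvolution_of_sylow R hz hall
    have h1 : z ∈ center L := mem_center_iff.2 fun g => by
      have := CfsgLib.Invol.zStar hiso g
      rw [pPrimeCore_eq_bot_of_involution hz, mem_bot, mul_inv_eq_one, mul_inv_eq_iff_eq_mul] at this
      exact this.symm
    rcases (inferInstance : (center L).Normal).eq_bot_or_eq_top with h | h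
    · exact hz1 (by rw [h, mem_bot] at h1; exact h1)
    · exact hL ⟨⟨fun a b => mem_center_iff.1 (h.symm ▸ mem_top b : b ∈ center L) a⟩⟩
  set w := g * z * g⁻¹ with hw
  have hw2 : w * w = 1 := by rw [hw, conj_mul, hz2, mul_one, mul_inv_cancel]
  have hwnz : w ∉ zpowers z := fun h => by
    rcases hmemz _ h with e | e
    · exact hz1 (conj_eq_one_iff.1 e)
    · exact hgz e
  obtain ⟨q, hq, hqw⟩ : ∃ q ∈ (R : Subgroup L), q * w ≠ w * q := by
    by_contra! h
    exact hwnz (hcentral w hgR h hw2)
  set A : Subgroup L := (R : Subgroup L) ⊓ centralizer ({w} : Set L) with hA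
  have hmemA : ∀ a, a ∈ A ↔ a ∈ (R : Subgroup L) ∧ a * w = w * a := fun a => by
    rw [hA, mem_inf, mem_centralizer_singleton_iff]
  have hqA : q ∉ A := fun h => hqw ((hmemA q).1 h).2
  have hA2 : ∀ a ∈ A, a * a = 1 := by
    intro a ha
    obtain ⟨haR, haw⟩ := (hmemA a).1 ha
    rcases hmemz _ (hsq a haR) with e | e
    · exact e
    · exfalso
      have hb : g⁻¹ * a * g ∈ (R : Subgroup L) := by
        rw [hR, mem_centralizer_singleton_iff]
        calc g⁻¹ * a * g * z = g⁻¹ * (a * w) * g := by rw [hw]; group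
          _ = g⁻¹ * (w * a) * g := by rw [haw]
          _ = z * (g⁻¹ * a * g) := by rw [hw]; group
      rcases hmemz _ (hsq _ hb) with e' | e'
      · rw [show g⁻¹ * a * g * (g⁻¹ * a * g) = g⁻¹ * (a * a) * g by group, e] at e'
        exact hz1 (by simpa using conj_eq_one_iff.1 (by rw [inv_inv]; exact e' : g⁻¹ * z * g⁻¹⁻¹ = 1))
      · rw [show g⁻¹ * a * g * (g⁻¹ * a * g) = g⁻¹ * (a * a) * g by group, e] at e'
        exact hgz (by calc g * z * g⁻¹ = g * (g⁻¹ * z * g) * g⁻¹ := by rw [e']
                        _ = z := by group)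
  have hAcomm : ∀ a ∈ A, ∀ b ∈ A, a * b = b * a := by
    intro a ha b hb
    have h1 := hA2 _ (mul_mem ha hb)
    calc a * b = a * (a * b * (a * b)) * b := by rw [h1, mul_one]
      _ = (a * a) * (b * a) * (b * b) := by group
      _ = b * a := by rw [hA2 a ha, hA2 b hb, one_mul, mul_one]
  clear_value A
  -- elements outside A
  have hout : ∀ a ∈ (R : Subgroup L), a ∉ A → a * w * a⁻¹ = z * w := by
    intro a ha haA
    rcases hmemz _ (hcomm a ha w hgR) with e | e
    · exact absurd ((hmemA a).2 ⟨ha, mul_inv_eq_iff_eq_mul.1 (mul_inv_eq_one.1 e)⟩) haA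
    · exact mul_inv_eq_iff_eq_mul.1 e
  have hzA : z ∈ A := (hmemA z).2 ⟨hzR, (hzc w hgR).symm⟩
  have hwA : w ∈ A := (hmemA w).2 ⟨hgR, rfl⟩
  have hindex : ∀ a ∈ (R : Subgroup L), a ∉ A → q⁻¹ * a ∈ A := by
    intro a ha haA
    refine (hmemA _).2 ⟨mul_mem (inv_mem hq) ha, ?_⟩
    have h1 : a * w * a⁻¹ = q * w * q⁻¹ := (hout a ha haA).trans (hout q hq hqA).symm
    calc q⁻¹ * a * w = q⁻¹ * (a * w * a⁻¹) * a := by group
      _ = q⁻¹ * (q * w * q⁻¹) * a := by rw [h1]
      _ = w * (q⁻¹ * a) := by group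
  have hAfour : ∀ a ∈ A, a = 1 ∨ a = z ∨ a = w ∨ a = z * w := by
    intro a ha
    obtain ⟨haR, -⟩ := (hmemA a).1 ha
    have hfix : ∀ b ∈ A, q * b = b * q → b ∈ zpowers z := by
      intro b hb hqb
      refine hcentral b ((hmemA b).1 hb).1 (fun r hr => ?_) (hA2 b hb)
      by_cases hrA : r ∈ A
      · exact hAcomm r hrA b hb
      · have h1 := hindex r hr hrA
        calc r * b = q * (q⁻¹ * r * b) := by group
          _ = q * (b * (q⁻¹ * r)) := by rw [hAcomm _ h1 b hb]
          _ = b * r := by rw [← mul_assoc, hqb]; group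
    rcases hmemz _ (hcomm q hq a haR) with e | e
    · rcases hmemz _ (hfix a ha (mul_inv_eq_iff_eq_mul.1 (mul_inv_eq_one.1 e))) with h | h
      · exact Or.inl h
      · exact Or.inr (Or.inl h)
    · have hqa : q * a * q⁻¹ = z * a := mul_inv_eq_iff_eq_mul.1 e
      have hqaw : q * (a * w) = a * w * q := by
        refine mul_inv_eq_iff_eq_mul.1 ?_
        rw [← conj_mul, hqa, hout q hq hqA]
        calc z * a * (z * w) = z * (a * z) * w := by group
          _ = (z * z) * (a * w) := by rw [hzc a haR]; group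
          _ = a * w := by rw [hz2, one_mul]
      rcases hmemz _ (hfix _ (mul_mem ha hwA) hqaw) with h | h
      · exact Or.inr (Or.inr (Or.inl (by
          calc a = a * w * w := by rw [mul_assoc, hw2, mul_one]
            _ = w := by rw [h, one_mul])))
      · exact Or.inr (Or.inr (Or.inr (by
          calc a = a * w * w := by rw [mul_assoc, hw2, mul_one]
            _ = z * w := by rw [h])))
  -- a second involution
  obtain ⟨y, hyR, hyA, hy2⟩ : ∃ y ∈ (R : Subgroup L), y ∉ A ∧ y * y = 1 := by
    rcases hmemz _ (hsq q hq) with e | e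
    · exact ⟨q, hq, hqA, e⟩
    · refine ⟨w * q, mul_mem hgR hq, fun h => hqA ?_, ?_⟩
      · simpa using mul_mem (inv_mem hwA) h
      · calc w * q * (w * q) = w * (q * w * q⁻¹) * (q * q) := by group
          _ = w * (z * w) * z := by rw [hout q hq hqA, e]
          _ = w * z * (w * z) := by group
          _ = w * z * (z * w) := by rw [hzc w hgR]
          _ = w * (z * z) * w := by group
          _ = 1 := by rw [hz2, mul_one, hw2]
  have hyw : y * w ≠ w * y := fun h => hyA ((hmemA y).2 ⟨hyR, h⟩)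
  have hw1 : w ≠ 1 := fun h => hwnz (h ▸ one_mem _)
  have hy1 : y ≠ 1 := fun h => hyA (h ▸ one_mem A)
  have hwy : w ≠ y := fun h => hyA (h ▸ hwA)
  have hwy2 : (w * y) * (w * y) = z := by
    calc w * y * (w * y) = w * (y * w * y⁻¹) * (y * y) := by group
      _ = w * (z * w) := by rw [hout y hyR hyA, hy2, mul_one]
      _ = z * (w * w) := by rw [← mul_assoc, hzc w hgR, mul_assoc]
      _ = z := by rw [hw2, mul_one]
  have hord : orderOf (w * y) = 4 := by
    refine orderOf_eq_prime_pow (p := 2) (n := 1) ?_ ?_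
    · rw [pow_one, pow_two, hwy2]; exact hz1
    · rw [show (2 : ℕ) ^ (1 + 1) = 2 * 2 by norm_num, pow_mul, pow_two (w * y), hwy2, pow_two, hz2]
  have hgen : closure ({w, y} : Set L) = (R : Subgroup L) := by
    refine le_antisymm ((closure_le _).2 (by rintro x (rfl | rfl); exacts [hgR, hyR])) fun x hx => ?_
    have hz' : z ∈ closure ({w, y} : Set L) := by
      rw [← hwy2]
      exact mul_mem (mul_mem (subset_closure (by simp)) (subset_closure (by simp)))
        (mul_mem (subset_closure (by simp)) (subset_closure (by simp)))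
    have hAle : ∀ a ∈ A, a ∈ closure ({w, y} : Set L) := by
      intro a ha
      rcases hAfour a ha with rfl | rfl | rfl | rfl
      exacts [one_mem _, hz', subset_closure (by simp), mul_mem hz' (subset_closure (by simp))]
    by_cases hxA : x ∈ A
    · exact hAle x hxA
    · have h1 : y⁻¹ * x ∈ A := by
        have := mul_mem (inv_mem (hindex y hyR hyA)) (hindex x hx hxA)
        simpa [mul_assoc] using this
      have := mul_mem (subset_closure (by simp) : y ∈ closure ({w, y} : Set L)) (hAle _ h1)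
      rwa [mul_inv_cancel_left] at this
  obtain ⟨e⟩ := Invol.nonempty_closure_pair_mulEquiv (orderOf_eq_prime (by rw [pow_two, hw2]) hw1)
    (orderOf_eq_prime (by rw [pow_two, hy2]) hy1) hwy
  rw [hord] at e
  exact ⟨(MulEquiv.subgroupCongr hgen).symm.trans e⟩

end CfsgLib.LargeXS
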