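import Mathlib
import Cfsg.Agent.Lib.LargeXS.DihedralCentralizer

/-! No involution of a non-abelian simple group generates its own centralizer. -/

set_option autoImplicit false

namespace CfsgLib.LargeXS

open Subgroup

theorem centralizer_not_le_zpowers {L : Type*} [Group L] [Finite L] [IsSimpleGroup L]
    (hna : ¬ IsMulCommutative L) {z : L} (hz : orderOf z = 2)
    (hC : centralizer ({z} : Set L) ≤ zpowers z) : False := by
  haveI : Fact (Nat.Prime 2) := ⟨Nat.prime_two⟩
  obtain ⟨S, hS⟩ := (IsPGroup.of_card (p := 2) (n := 1) (G := ↥(zpowers z)) (by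
    rw [Nat.card_zpowers, hz, pow_one])).exists_le_sylow
  have hzS : z ∈ (S : Subgroup L) := hS (mem_zpowers z)
  haveI : Nontrivial ↥(S : Subgroup L) :=
    (nontrivial_iff_exists_ne_one _).2 ⟨z, hzS, fun e => by rw [e, orderOf_one] at hz; norm_num at hz⟩
  haveI := S.2.center_nontrivial
  obtain ⟨⟨c, hc⟩, hc1⟩ := exists_ne (1 : Subgroup.center ↥(S : Subgroup L))
  have hcs : ∀ s ∈ (S : Subgroup L), s * (c : L) = c * s := fun s hs =>
    congrArg Subtype.val (mem_center_iff.1 hc ⟨s, hs⟩)
  have hcz : (c : L) = z := by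
    obtain ⟨k, hk⟩ := mem_zpowers_iff.1 (hC (mem_centralizer_singleton_iff.2 (hcs z hzS).symm))
    have h2 : z * z = 1 := by rw [← pow_two, ← hz]; exact pow_orderOf_eq_one z
    rcases Int.even_or_odd k with ⟨j, rfl⟩ | ⟨j, rfl⟩
    · exfalso
      refine hc1 (Subtype.ext (Subtype.ext ?_))
      rw [← hk, ← two_mul, zpow_mul, zpow_two, h2, one_zpow]
      rfl
    · rw [← hk, zpow_add, zpow_mul, zpow_two, h2, one_zpow, one_mul, zpow_one]
  have heq : (S : Subgroup L) = zpowers z :=
    le_antisymm (fun s hs => hC (mem_centralizer_singleton_iff.2 (hcz ▸ hcs s hs))) hS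
  have hcard : Nat.card ↥(S : Subgroup L) = 2 := by rw [heq, Nat.card_zpowers, hz]
  have hcen : normalizer ((S : Subgroup L) : Set L) ≤ centralizer ((S : Subgroup L) : Set L) := by
    intro g hg
    refine mem_centralizer_iff.2 fun s hs => ?_
    haveI : Finite ↥(S : Subgroup L) := inferInstance
    obtain ⟨x, -, huniq⟩ := (Nat.card_eq_two_iff' (1 : ↥(S : Subgroup L))).1 hcard
    by_cases hs1 : s = 1
    · rw [hs1, one_mul, mul_one]
    · have e1 := huniq ⟨s, hs⟩ fun e => hs1 (congrArg Subtype.val e)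
      have e2 := huniq ⟨g * s * g⁻¹, (mem_normalizer_iff.1 hg s).1 hs⟩
        fun e => hs1 (conj_eq_one_iff.1 (congrArg Subtype.val e))
      exact (mul_inv_eq_iff_eq_mul.1 (congrArg Subtype.val (e2.trans e1.symm))).symm
  have hcompl := MonoidHom.ker_transferSylow_isComplement' S hcen
  exact not_normal_index_two hna _ inferInstance
    (show (MonoidHom.transferSylow S hcen).ker.index = 2 by rw [hcompl.symm.index_eq_card, hcard])

end CfsgLib.LargeXS
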