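import Mathlib
import Cfsg.Agent.Lib.LargeXS.Simple
import Cfsg.Agent.Lib.LargeXS.LayerParts
import Cfsg.Agent.Lib.LargeXS.SmallCentralizer
import Cfsg.Agent.Lib.PGroup.Basic

/-! The normal closure of the central involution of a large extraspecial 2-subgroup. -/

set_option autoImplicit false

namespace CfsgLib.LargeXS

open Subgroup CfsgLib.Components

variable {G : Type*} [Group G] [Finite G] {Q M : Subgroup G} {z : G}

/-- The setting: a large extraspecial subgroup `Q` with central involution `z`, and the normal closure of `z`. -/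
structure Large (Q : Subgroup G) (z : G) : Prop extends Base Q z where
  odd : ∀ K : Subgroup G, Odd (Nat.card K) → Q ≤ normalizer (K : Set G) → K = ⊥

theorem large_of (hQ : Cfsg.IsLargeExtraspecial Q)
    (hz : (Subgroup.center Q).map Q.subtype = zpowers z) : Large Q z :=
  ⟨⟨hQ.1, hz, hQ.2.1, hQ.2.2.1⟩, hQ.2.2.2⟩

namespace Large

variable (h : Large Q z)
include h

theorem mem_of_ne_bot {N : Subgroup G} [N.Normal] (hN : N ≠ ⊥) : z ∈ N := by
  by_contra hzN
  refine hN (h.odd N (h.toBase.inverts hzN).2 ?_)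
  rw [normalizer_eq_top]
  exact le_top

theorem normalClosure_le {N : Subgroup G} [N.Normal] (hN : N ≠ ⊥) : normalClosure ({z} : Set G) ≤ N :=
  normalClosure_le_normal (Set.singleton_subset_iff.2 (h.mem_of_ne_bot hN))

theorem pCore_eq_bot {q : ℕ} (hq : q.Prime) (hne : q ≠ 2) : Cfsg.pCore q G = ⊥ := by
  haveI := Fact.mk hq
  refine h.odd _ ?_ (by rw [normalizer_eq_top]; exact le_top)
  obtain ⟨k, hk⟩ := (Components.isPGroup_pCore (G := G) q).exists_card_eq
  rw [hk]
  exact (hq.odd_of_ne_two hne).pow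

theorem component_not_le_centralizer {L : Subgroup G} (hL : Cfsg.IsComponent L)
    (hc : L ≤ centralizer ({z} : Set G)) : False := by
  haveI : Fact (Nat.Prime 2) := ⟨Nat.prime_two⟩
  have hs : Group.IsSolvable Q := haveI := h.pair.two.isNilpotent; inferInstance
  have hcQ : ⁅L, Q⁆ = ⊥ := component_commutator_solvable hL hs fun x hx =>
    h.pair.le_normalizer x (mem_centralizer_singleton_iff.1 (hc hx))
  have hle : L ≤ Q := fun x hx => by
    have := commutator_eq_bot_iff_le_centralizer.1 hcQ hx
    rcases h.pair.selfCent x (fun q hq => (mem_centralizer_iff.1 this q hq)) with e | e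
    · exact e ▸ one_mem _
    · exact e ▸ h.pair.mem
  exact component_not_le_of_isSolvable hL hs hle

theorem abelian_case (hF : Cfsg.fittingSubgroup G ≠ ⊥) :
    IsMulCommutative ↥(normalClosure ({z} : Set G)) ∧
      Cfsg.generalizedFittingSubgroup G = Cfsg.pCore 2 G := by
  haveI : Fact (Nat.Prime 2) := ⟨Nat.prime_two⟩
  have h2 : Cfsg.pCore 2 G ≠ ⊥ := fun e => hF (le_bot_iff.1 (fitting_le_of_pCore_le fun q hq => by
    by_cases hne : q = 2
    · rw [hne, e]
    · rw [h.pCore_eq_bot hq hne]))
  have hp := Components.isPGroup_pCore (G := G) 2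
  set Zc := (center ↥(Cfsg.pCore 2 G)).map (Cfsg.pCore 2 G).subtype
  haveI : Zc.Normal := inferInstance
  have hZc : Zc ≠ ⊥ := by
    haveI : Nontrivial ↥(Cfsg.pCore 2 G) := (nontrivial_iff_ne_bot _).2 h2
    haveI := hp.center_nontrivial
    rw [ne_eq, map_eq_bot_iff_of_injective _ (Cfsg.pCore 2 G).subtype_injective]
    exact (nontrivial_iff_ne_bot _).1 inferInstance
  have hM := h.normalClosure_le hZc
  refine ⟨⟨⟨fun a b => Subtype.ext ?_⟩⟩, (genFitting_eq_pCore_iff_criterion 2).2
    ⟨(layer_eq_bot_iff).2 fun L hL => h.component_not_le_centralizer hL fun x hx => ?_,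
      fun q hq hne => h.pCore_eq_bot hq hne⟩⟩
  · obtain ⟨a', ha', ea⟩ := hM a.2
    obtain ⟨b', -, eb⟩ := hM b.2
    show (a : G) * b = b * a
    rw [← ea, ← eb]
    exact congrArg Subtype.val (mem_center_iff.1 ha' b').symm
  · have hzO : z ∈ Cfsg.pCore 2 G := h.mem_of_ne_bot h2
    exact mem_centralizer_singleton_iff.2
      (mem_centralizer_iff.1 (layer_le_centralizer_pCore 2 (component_le_layer hL hx)) z hzO).symm

theorem layer_case (hF : Cfsg.fittingSubgroup G = ⊥) :
    normalClosure ({z} : Set G) = Cfsg.layer G ∧ Cfsg.generalizedFittingSubgroup G = Cfsg.layer G ∧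
      centralizer (Cfsg.layer G : Set G) = ⊥ ∧ ∃ L : Subgroup G, Cfsg.IsComponent L := by
  haveI : Nontrivial G := ⟨⟨z, 1, h.pair.ne_one⟩⟩
  haveI := KSteps.gfit_normal G
  have hgf : Cfsg.generalizedFittingSubgroup G = Cfsg.layer G := by
    rw [Cfsg.generalizedFittingSubgroup, hF, sup_bot_eq]
  have hne : Cfsg.layer G ≠ ⊥ := hgf ▸ genFitting_ne_bot
  haveI : (Cfsg.layer G).Normal := hgf ▸ KSteps.gfit_normal G
  obtain ⟨L₀, hL₀⟩ : ∃ L : Subgroup G, Cfsg.IsComponent L := by
    by_contra! hno
    exact hne ((layer_eq_bot_iff).2 hno)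
  set M := normalClosure ({z} : Set G)
  have hMne : M ≠ ⊥ := fun e => h.pair.ne_one (mem_bot.1 (e ▸ subset_normalClosure rfl))
  have hcM : centralizer (M : Set G) = ⊥ := by
    by_contra hc
    have hMc : M ≤ centralizer (M : Set G) := h.normalClosure_le hc
    haveI : IsMulCommutative ↥M := ⟨⟨fun a b => Subtype.ext (mem_centralizer_iff.1 (hMc b.2) a a.2)⟩⟩
    let _ : CommGroup ↥M := { (inferInstance : Group ↥M) with
      mul_comm := fun a b => Subtype.ext (mem_centralizer_iff.1 (hMc b.2) a a.2) }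
    exact hMne (le_bot_iff.1 (hF ▸ le_fitting_of_normal inferInstance CommGroup.isNilpotent))
  have heq : M = Cfsg.layer G := by
    refine le_antisymm (h.normalClosure_le hne) (sSup_le fun L hL => ?_)
    rcases component_le_or_commutator_normal hL (inferInstance : M.Normal) with e | e
    · exact e
    · exfalso
      have := commutator_eq_bot_iff_le_centralizer.1 e
      rw [hcM] at this
      exact component_ne_bot hL (le_bot_iff.1 this)
  exact ⟨heq, hgf, heq ▸ hcM, L₀, hL₀⟩

end Large

end CfsgLib.LargeXS
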