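import Mathlib
import Cfsg.Agent.Lib.LargeXS.Dichotomy

/-! Components moved by a large extraspecial 2-subgroup. -/

set_option autoImplicit false

namespace CfsgLib.LargeXS

open Subgroup CfsgLib.Components

variable {G : Type*} [Group G] [Finite G] {Q L : Subgroup G} {z z₁ z' u : G}

/-- A component `L`, with `z = z₁ z'` accordingly, moved by `u ∈ Q`. -/
structure Moved (Q L : Subgroup G) (z z₁ z' u : G) : Prop where
  large : Large Q z
  cent : centralizer (Cfsg.layer G : Set G) = ⊥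
  normal : (Cfsg.layer G).Normal
  comp : Cfsg.IsComponent L
  mem₁ : z₁ ∈ L
  mem' : z' ∈ others L
  eq : z = z₁ * z'
  u_mem : u ∈ Q
  move : L.map (MulAut.conj u).toMonoidHom ≠ L

/-- `z` lies in no join of all components but one. -/
theorem Large.not_mem_others (h : Large Q z) {C : Subgroup G} (hC : Cfsg.IsComponent C) : z ∉ others C :=
  fun hz => h.component_not_le_centralizer hC fun _ hx =>
    mem_centralizer_singleton_iff.2 (commute_others hC hx hz)

namespace Moved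

variable (h : Moved Q L z z₁ z' u)
include h

theorem comp_conj (g : G) : Cfsg.IsComponent (L.map (MulAut.conj g).toMonoidHom) :=
  component_map_conj h.comp g

omit [Finite G] in
theorem conj_mem_map {g x : G} (hx : x ∈ L) : g * x * g⁻¹ ∈ L.map (MulAut.conj g).toMonoidHom :=
  ⟨x, hx, by simp [MulAut.conj_apply]⟩

theorem conj_part {q : G} (hq : q * z * q⁻¹ = z) :
    q * z' * q⁻¹ ∈ others (L.map (MulAut.conj q).toMonoidHom) ∧
      z = (q * z₁ * q⁻¹) * (q * z' * q⁻¹) :=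
  ⟨map_others_le q L ⟨z', h.mem', by simp [MulAut.conj_apply]⟩, by
    conv_lhs => rw [← hq, h.eq]
    group⟩

theorem fix_of_mem {q : G} (hq : q ∈ Q) : q * z * q⁻¹ = z :=
  mul_inv_eq_iff_eq_mul.2 (h.large.pair.central q hq)

theorem z₁_ne_one : z₁ ≠ 1 := fun e => h.large.not_mem_others h.comp (by
  rw [h.eq, e, one_mul]; exact h.mem')

theorem z₁_sq : z₁ * z₁ = 1 := by
  refine (parts_unique h.cent h.comp (a := z₁ * z₁) (b := z' * z') (a' := 1) (b' := 1)
    (mul_mem h.mem₁ h.mem₁) (one_mem _) (mul_mem h.mem' h.mem') (one_mem _) ?_).1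
  calc z₁ * z₁ * (z' * z') = z₁ * (z₁ * z') * z' := by group
    _ = z₁ * (z' * z₁) * z' := by rw [commute_others h.comp h.mem₁ h.mem']
    _ = z * z := by rw [h.eq]; group
    _ = 1 * 1 := by rw [h.large.pair.mul_self, one_mul]

/-- The centralizer of `z₁` in `L` lies in the centralizer of `z`. -/
theorem commute_z {y : G} (hy : y ∈ L) (hyz : y * z₁ = z₁ * y) : y * z = z * y := by
  rw [h.eq]
  exact (Commute.mul_right hyz (commute_others h.comp hy h.mem')).eq

/-- `y (u y u⁻¹)⁻¹` lies in `Q`. -/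
theorem w_mem {y : G} (hy : y ∈ L) (hyz : y * z₁ = z₁ * y) : y * (u * y * u⁻¹)⁻¹ ∈ Q := by
  have := Q.mul_mem (h.large.pair.norm y (h.commute_z hy hyz) u h.u_mem) (Q.inv_mem h.u_mem)
  convert this using 1
  group

theorem w_ne_one {y : G} (hy : y ∈ L) (hy1 : y ≠ 1) : y * (u * y * u⁻¹)⁻¹ ≠ 1 := fun e => hy1 <|
  eq_one_of_mem_others h.cent h.comp hy (by
    rw [mul_inv_eq_one.1 e]
    exact le_others (h.comp_conj u) h.move (h.conj_mem_map hy))

theorem u_mem_others {y : G} (hy : y ∈ L) : u * y * u⁻¹ ∈ others L :=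
  le_others (h.comp_conj u) h.move (h.conj_mem_map hy)

theorem only_two {C : Subgroup G} (hC : Cfsg.IsComponent C) :
    C = L ∨ C = L.map (MulAut.conj u).toMonoidHom := by
  haveI := (isSimpleGroup_component h.cent h.comp).1
  by_contra! hcon
  obtain ⟨hCL, hCK⟩ := hcon
  set K := L.map (MulAut.conj u).toMonoidHom
  refine centralizer_not_le_zpowers (L := L) (isSimpleGroup_component h.cent h.comp).2 (z := ⟨z₁, h.mem₁⟩) ?_ ?_
  · exact orderOf_eq_prime (Subtype.ext (by rw [SubgroupClass.coe_pow, pow_two]; exact h.z₁_sq))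
      fun e => h.z₁_ne_one (congrArg Subtype.val e)
  rintro ⟨y, hy⟩ hyc
  have hyz : y * z₁ = z₁ * y := congrArg Subtype.val (mem_centralizer_singleton_iff.1 hyc)
  by_contra hcon
  have hy1 : y ≠ 1 := fun e => hcon (by rw [show (⟨y, hy⟩ : L) = 1 from Subtype.ext e]; exact one_mem _)
  have hyz1 : y ≠ z₁ := fun e => hcon (by
    rw [show (⟨y, hy⟩ : L) = ⟨z₁, h.mem₁⟩ from Subtype.ext e]; exact mem_zpowers _)
  set w := y * (u * y * u⁻¹)⁻¹ with hw
  have hzC : z ∉ others C := h.large.not_mem_others hC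
  have hwC : w ∈ others C := mul_mem (le_others h.comp (Ne.symm hCL) hy)
    (inv_mem (le_others (h.comp_conj u) (Ne.symm hCK) (h.conj_mem_map hy)))
  obtain ⟨q, hq, hqw⟩ := h.large.pair.exists_conj_eq_mul (h.w_mem hy hyz) (h.w_ne_one hy hy1)
    fun e => hzC (by rw [← e]; exact hwC)
  set A := L.map (MulAut.conj q).toMonoidHom
  set B := K.map (MulAut.conj q).toMonoidHom
  have hA : Cfsg.IsComponent A := h.comp_conj q
  have hB : Cfsg.IsComponent B := component_map_conj (h.comp_conj u) q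
  have houtside : ∀ D : Subgroup G, A ≠ D → B ≠ D → w * z ∈ others D := by
    intro D hAD hBD
    rw [← hqw]
    have e : q * w * q⁻¹ = (q * y * q⁻¹) * (q * (u * y * u⁻¹) * q⁻¹)⁻¹ := by rw [hw]; group
    rw [e]
    exact mul_mem (le_others hA hAD (h.conj_mem_map hy))
      (inv_mem (le_others hB hBD ⟨u * y * u⁻¹, h.conj_mem_map hy, by simp [MulAut.conj_apply]⟩))
  have hLne : y * z₁ ≠ 1 := fun e => hyz1 (by
    rw [eq_inv_of_mul_eq_one_left e, inv_eq_of_mul_eq_one_right h.z₁_sq])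
  have h1 : w * z ∉ others L := by
    intro hm
    refine hLne (eq_one_of_mem_others h.cent h.comp (mul_mem hy h.mem₁) ?_)
    have e : y * z₁ = (w * z) * ((u * y * u⁻¹)⁻¹ * z')⁻¹ := by
      have hc := commute_others h.comp h.mem₁ (inv_mem (h.u_mem_others hy))
      rw [hw, h.eq]
      calc y * z₁ = y * (z₁ * (u * y * u⁻¹)⁻¹) * (u * y * u⁻¹) := by group
        _ = y * ((u * y * u⁻¹)⁻¹ * z₁) * (u * y * u⁻¹) := by rw [hc]
        _ = _ := by group
    rw [e]
    exact mul_mem hm (inv_mem (mul_mem (inv_mem (h.u_mem_others hy)) h.mem'))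
  have h2 : w * z ∉ others K := by
    intro hm
    obtain ⟨hzK, hzeq⟩ := h.conj_part (h.fix_of_mem h.u_mem)
    have hm' : u * (y⁻¹ * z₁) * u⁻¹ ∈ others K := by
      have hy' : y ∈ others K := le_others h.comp h.move.symm hy
      have e : u * (y⁻¹ * z₁) * u⁻¹ = y⁻¹ * (w * z) * (u * z' * u⁻¹)⁻¹ := by
        conv_rhs => rw [hzeq, hw]
        group
      rw [e]
      exact mul_mem (mul_mem (inv_mem hy') hm) (inv_mem hzK)
    have := eq_one_of_mem_others h.cent (h.comp_conj u) (h.conj_mem_map (mul_mem (inv_mem hy) h.mem₁)) hm'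
    exact hyz1 (inv_mul_eq_one.1 (conj_eq_one_iff.1 this))
  have h3 : w * z ∉ others C := fun hm => hzC (by
    have := mul_mem (inv_mem hwC) hm
    rwa [inv_mul_cancel_left] at this)
  by_cases e1 : A = L
  · by_cases e2 : B = K
    · exact h3 (houtside C (e1 ▸ hCL.symm) (e2 ▸ hCK.symm))
    · exact h2 (houtside K (e1 ▸ h.move.symm) e2)
  · by_cases e2 : B = L
    · by_cases e3 : A = K
      · exact h3 (houtside C (e3 ▸ hCK.symm) (e2 ▸ hCL.symm))
      · exact h2 (houtside K e3 (e2 ▸ h.move.symm))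
    · exact h1 (houtside L e1 e2)

theorem others_eq : others L = L.map (MulAut.conj u).toMonoidHom :=
  le_antisymm (sSup_le fun _ hC => ((h.only_two hC.1).resolve_left hC.2).le) (le_others (h.comp_conj u) h.move)

theorem z'_eq : z' = u * z₁ * u⁻¹ := by
  obtain ⟨hzK, hzeq⟩ := h.conj_part (h.fix_of_mem h.u_mem)
  have hothers : others (L.map (MulAut.conj u).toMonoidHom) ≤ L :=
    sSup_le fun _ hC => ((h.only_two hC.1).resolve_right hC.2).le
  have he : z = (u * z' * u⁻¹) * (u * z₁ * u⁻¹) := by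
    rw [← commute_others (h.comp_conj u) (h.conj_mem_map h.mem₁) hzK, ← hzeq]
  exact (parts_unique h.cent h.comp h.mem₁ (hothers hzK) h.mem' (h.u_mem_others h.mem₁) (h.eq.symm.trans he)).2

theorem exists_parts_uL {x : G} (hx : x ∈ others L) : ∃ y ∈ L, u * y * u⁻¹ = x := by
  rw [h.others_eq] at hx
  obtain ⟨y, hy, rfl⟩ := hx
  exact ⟨y, hy, by simp [MulAut.conj_apply]⟩

/-- Squares and commutators in `C_L(z₁)`. -/
theorem part_cases {a : G} (ha : a ∈ L) {b : G} (hb : b ∈ others L) (hab : a * b = 1 ∨ a * b = z) :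
    a = 1 ∨ a = z₁ := by
  rcases hab with e | e
  · exact Or.inl (parts_unique h.cent h.comp ha (one_mem _) hb (one_mem _) (by rw [e, one_mul])).1
  · exact Or.inr (parts_unique h.cent h.comp ha h.mem₁ hb h.mem' (by rw [e, h.eq])).1

theorem sq_cases {y : G} (hy : y ∈ L) (hyz : y * z₁ = z₁ * y) : y * y = 1 ∨ y * y = z₁ := by
  have hy' := h.u_mem_others hy
  refine h.part_cases (mul_mem hy hy) (mul_mem (inv_mem hy') (inv_mem hy')) ?_
  have hc := commute_others h.comp hy (inv_mem hy')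
  have := h.large.pair.sq _ (h.w_mem hy hyz)
  rwa [show y * (u * y * u⁻¹)⁻¹ * (y * (u * y * u⁻¹)⁻¹) = y * y * ((u * y * u⁻¹)⁻¹ * (u * y * u⁻¹)⁻¹) by
    rw [mul_assoc, ← mul_assoc ((u * y * u⁻¹)⁻¹) y, ← hc]; group] at this

theorem comm_cases {x y : G} (hx : x ∈ L) (hxz : x * z₁ = z₁ * x) (hy : y ∈ L) (hyz : y * z₁ = z₁ * y) :
    x * y * x⁻¹ * y⁻¹ = 1 ∨ x * y * x⁻¹ * y⁻¹ = z₁ := by
  have hx' := inv_mem (h.u_mem_others hx)
  have hy' := inv_mem (h.u_mem_others hy)
  refine h.part_cases (mul_mem (mul_mem (mul_mem hx hy) (inv_mem hx)) (inv_mem hy))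
    (mul_mem (mul_mem (mul_mem hx' hy') (inv_mem hx')) (inv_mem hy')) ?_
  have := h.large.pair.comm _ (h.w_mem hx hxz) _ (h.w_mem hy hyz)
  generalize (u * x * u⁻¹)⁻¹ = a at hx' this ⊢
  generalize (u * y * u⁻¹)⁻¹ = b at hy' this ⊢
  have c1 : Commute y a := commute_others h.comp hy hx'
  have c2 : Commute x b := commute_others h.comp hx hy'
  have c3 : Commute x a := commute_others h.comp hx hx'
  have c4 : Commute y b := commute_others h.comp hy hy'
  have e : x * a * (y * b) * (x * a)⁻¹ * (y * b)⁻¹ = x * y * x⁻¹ * y⁻¹ * (a * b * a⁻¹ * b⁻¹) := by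
    have e1 : x * a * (y * b) = x * y * (a * b) := by
      rw [mul_assoc x a, ← mul_assoc a y, ← c1.eq]; group
    have e3 : (x * y) * ((a * b) * x⁻¹) * a⁻¹ = x * y * x⁻¹ * (a * b * a⁻¹) := by
      rw [((c3.mul_right c2).inv_left).symm.eq]; group
    have e4 : (a * b * a⁻¹) * y⁻¹ = y⁻¹ * (a * b * a⁻¹) :=
      (((c1.mul_right c4).mul_right c1.inv_right).inv_left).symm.eq
    calc x * a * (y * b) * (x * a)⁻¹ * (y * b)⁻¹
        = x * y * (a * b) * (a⁻¹ * x⁻¹) * (b⁻¹ * y⁻¹) := by rw [e1, mul_inv_rev, mul_inv_rev]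
      _ = x * y * (a * b) * (x⁻¹ * a⁻¹) * (y⁻¹ * b⁻¹) := by rw [c3.inv_inv.eq, c4.inv_inv.eq]
      _ = (x * y) * ((a * b) * x⁻¹) * a⁻¹ * y⁻¹ * b⁻¹ := by group
      _ = x * y * x⁻¹ * ((a * b * a⁻¹) * y⁻¹) * b⁻¹ := by rw [e3]; group
      _ = x * y * x⁻¹ * y⁻¹ * (a * b * a⁻¹ * b⁻¹) := by rw [e4]; group
  rwa [e] at this

/-- An automorphism of `L` induced in `G` moves `r` to `r z₁`. -/
theorem exists_shift {r : G} (hr : r ∈ L) (hrz : r * z₁ = z₁ * r) (hr2 : r * r = 1) (hr1 : r ≠ 1)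
    (hrne : r ≠ z₁) : ∃ a ∈ normalizer (L : Set G), a * z₁ * a⁻¹ = z₁ ∧ a * r * a⁻¹ = r * z₁ := by
  set r' := u * r * u⁻¹ with hr'
  have hr'2 : r'⁻¹ = r' := inv_eq_of_mul_eq_one_right (by rw [hr', conj_mul, hr2, mul_one, mul_inv_cancel])
  have hwz : r * r'⁻¹ ≠ z := fun e =>
    hrne (parts_unique h.cent h.comp hr h.mem₁ (inv_mem (h.u_mem_others hr)) h.mem' (e.trans h.eq)).1
  obtain ⟨q, hq, hqw⟩ := h.large.pair.exists_conj_eq_mul (h.w_mem hr hrz) (h.w_ne_one hr hr1) hwz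
  rw [← hr', hr'2] at hqw
  have he : r * r' * z = (r * z₁) * (r' * z') := by
    rw [h.eq]
    calc r * r' * (z₁ * z') = r * (r' * z₁) * z' := by group
      _ = r * (z₁ * r') * z' := by rw [← commute_others h.comp h.mem₁ (h.u_mem_others hr)]
      _ = _ := by group
  rw [he] at hqw
  obtain ⟨hzq, hzqe⟩ := h.conj_part (h.fix_of_mem hq)
  have hr'K : r' ∈ others L := h.u_mem_others hr
  have hothers : others (L.map (MulAut.conj u).toMonoidHom) ≤ L :=
    sSup_le fun _ hC => ((h.only_two hC.1).resolve_right hC.2).le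
  have hnorm : ∀ a : G, L.map (MulAut.conj a).toMonoidHom = L → a ∈ normalizer (L : Set G) := by
    intro a e
    refine mem_normalizer_fintype fun x hx => ?_
    have h1 := h.conj_mem_map (g := a) hx
    rwa [e] at h1
  have hqK : ∀ {x : G}, x ∈ others L → q * x * q⁻¹ ∈ others (L.map (MulAut.conj q).toMonoidHom) :=
    fun hx => map_others_le q L ⟨_, hx, by simp [MulAut.conj_apply]⟩
  rcases h.only_two (h.comp_conj q) with e | e
  · refine ⟨q, hnorm q e, ?_, ?_⟩
    · exact (parts_unique h.cent h.comp h.mem₁ (e ▸ h.conj_mem_map h.mem₁) h.mem' (e ▸ hzq)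
        (h.eq.symm.trans hzqe)).1.symm
    · refine (parts_unique h.cent h.comp (e ▸ h.conj_mem_map hr) (mul_mem hr h.mem₁)
        (b := q * r' * q⁻¹) (b' := r' * z') (e ▸ hqK hr'K) (mul_mem hr'K h.mem') ?_).1
      rw [← hqw]; group
  · have hq1 : q * z₁ * q⁻¹ = z' := by
      refine (parts_unique h.cent h.comp h.mem₁ (hothers (e ▸ hzq)) h.mem'
        (by rw [h.others_eq, ← e]; exact h.conj_mem_map h.mem₁)
        (h.eq.symm.trans (hzqe.trans (commute_others (h.comp_conj q) (h.conj_mem_map h.mem₁) hzq)))).2.symm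
    have hqr : q * r * q⁻¹ = r' * z' := by
      refine (parts_unique h.cent h.comp (a := q * r' * q⁻¹) (a' := r * z₁) (b := q * r * q⁻¹)
        (b' := r' * z') (hothers (e ▸ hqK hr'K)) (mul_mem hr h.mem₁)
        (by rw [h.others_eq, ← e]; exact h.conj_mem_map hr) (mul_mem hr'K h.mem') ?_).2
      rw [← hqw, ← commute_others (h.comp_conj q) (h.conj_mem_map hr) (hqK hr'K)]; group
    refine ⟨u⁻¹ * q, hnorm _ ?_, ?_, ?_⟩
    · rw [← map_conj_map_conj, e, map_conj_map_conj, inv_mul_cancel, map_conj_one]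
    · calc u⁻¹ * q * z₁ * (u⁻¹ * q)⁻¹ = u⁻¹ * (q * z₁ * q⁻¹) * u := by group
        _ = z₁ := by rw [hq1, h.z'_eq]; group
    · calc u⁻¹ * q * r * (u⁻¹ * q)⁻¹ = u⁻¹ * (q * r * q⁻¹) * u := by group
        _ = r * z₁ := by rw [hqr, hr', h.z'_eq]; group

end Moved

end CfsgLib.LargeXS
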