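import Mathlib
import Cfsg.Agent.Lib.LargeXS.DoubleComponent

/-! The centralizer of the component part of the central involution is a Sylow 2-subgroup. -/

set_option autoImplicit false

namespace CfsgLib.LargeXS

open Subgroup CfsgLib.Components

variable {G : Type*} [Group G] [Finite G] {Q L : Subgroup G} {z z₁ z' u : G}

namespace Moved

variable (h : Moved Q L z z₁ z' u)
include h

theorem pow_four {y : G} (hy : y ∈ L) (hyz : y * z₁ = z₁ * y) : y ^ 4 = 1 := by
  rw [show 4 = 2 * 2 from rfl, pow_mul, pow_two y, pow_two]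
  rcases h.sq_cases hy hyz with e | e <;> rw [e]
  · exact one_mul 1
  · exact h.z₁_sq

theorem isPGroup_cent : IsPGroup 2 ↥(L ⊓ centralizer ({z₁} : Set G)) := fun y =>
  ⟨2, Subtype.ext (h.pow_four y.2.1 (mem_centralizer_singleton_iff.1 y.2.2))⟩

theorem sylow {S : Subgroup G} (hS : IsPGroup 2 S) (hSL : S ≤ L)
    (hR : L ⊓ centralizer ({z₁} : Set G) ≤ S) : S = L ⊓ centralizer ({z₁} : Set G) := by
  haveI : Fact (Nat.Prime 2) := ⟨Nat.prime_two⟩
  set R := L ⊓ centralizer ({z₁} : Set G) with hRdef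
  have hmem : ∀ y, y ∈ R ↔ y ∈ L ∧ y * z₁ = z₁ * y := fun y => by
    rw [hRdef, mem_inf, mem_centralizer_singleton_iff]
  by_contra hne
  have hlt : R < S := lt_of_le_of_ne hR (Ne.symm hne)
  haveI := hS.isNilpotent
  have hlt' : R.subgroupOf S < normalizer ((R.subgroupOf S) : Set S) := by
    refine Group.normalizerCondition_of_isNilpotent _ ?_
    refine lt_top_iff_ne_top.2 fun e => hne (le_antisymm ?_ hR)
    exact subgroupOf_eq_top.1 e
  obtain ⟨s, hsN, hsR⟩ := SetLike.exists_of_lt hlt'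
  have hsRn : ∀ y ∈ R, (s : G) * y * (s : G)⁻¹ ∈ R := fun y hy =>
    mem_subgroupOf.1 ((mem_normalizer_iff.1 hsN ⟨y, hR hy⟩).1 (mem_subgroupOf.2 hy))
  by_cases hsq : ∃ y ∈ R, y * y = z₁
  · obtain ⟨y, hy, hy2⟩ := hsq
    refine hsR (mem_subgroupOf.2 ((hmem _).2 ⟨hSL s.2, ?_⟩))
    have h1 := (hmem _).1 (hsRn y hy)
    rcases h.sq_cases h1.1 h1.2 with e | e <;>
      rw [conj_mul, hy2] at e
    · exact absurd (conj_eq_one_iff.1 e) h.z₁_ne_one
    · exact mul_inv_eq_iff_eq_mul.1 e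
  push_neg at hsq
  have hinv : ∀ y ∈ R, y⁻¹ = y := fun y hy => inv_eq_of_mul_eq_one_right
    ((h.sq_cases ((hmem y).1 hy).1 ((hmem y).1 hy).2).resolve_right (hsq y hy))
  have hRc : ∀ x ∈ R, ∀ y ∈ R, x * y = y * x := fun x hx y hy => by
    calc x * y = (x * y)⁻¹ := (hinv _ (mul_mem hx hy)).symm
      _ = y * x := by rw [mul_inv_rev, hinv x hx, hinv y hy]
  -- the orbit of `z₁` in `R`
  set Γ : Set G := {r | r ∈ R ∧ ∃ a ∈ normalizer (L : Set G), a * z₁ * a⁻¹ = r} with hΓ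
  have hz₁R : z₁ ∈ R := (hmem _).2 ⟨h.mem₁, rfl⟩
  have hz₁Γ : z₁ ∈ Γ := ⟨hz₁R, 1, one_mem _, by group⟩
  have hne1 : ∀ r ∈ Γ, r ≠ 1 := by
    rintro r ⟨-, a, -, rfl⟩ e
    exact h.z₁_ne_one (conj_eq_one_iff.1 e)
  have hshift : ∀ r ∈ Γ, r ≠ z₁ → r * z₁ ∈ Γ := by
    intro r hr hrne
    obtain ⟨hrR, b, hb, hbe⟩ := hr
    obtain ⟨a, ha, ha1, ha2⟩ := h.exists_shift ((hmem r).1 hrR).1 ((hmem r).1 hrR).2
      (by nth_rewrite 1 [← hinv r hrR]; exact inv_mul_cancel r) (hne1 r ⟨hrR, b, hb, hbe⟩) hrne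
    exact ⟨mul_mem hrR hz₁R, a * b, mul_mem ha hb, by rw [← ha2, ← hbe]; group⟩
  have hclosed : ∀ r ∈ Γ, ∀ r' ∈ Γ, r ≠ r' → r * r' ∈ Γ := by
    intro r hr r' hr' hne'
    obtain ⟨hrR, a, ha, hae⟩ := hr
    obtain ⟨hr'R, b, hb, hbe⟩ := hr'
    have h1 : a⁻¹ * r' * a ∈ R := by
      refine (hmem _).2 ⟨?_, ?_⟩
      · have := (mem_normalizer_iff.1 (inv_mem ha) r').1 ((hmem r').1 hr'R).1
        rwa [inv_inv] at this
      · calc a⁻¹ * r' * a * z₁ = a⁻¹ * (r' * r) * a := by rw [← hae]; group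
          _ = a⁻¹ * (r * r') * a := by rw [hRc r' hr'R r hrR]
          _ = z₁ * (a⁻¹ * r' * a) := by rw [← hae]; group
    have h2 : a⁻¹ * r' * a ∈ Γ := ⟨h1, a⁻¹ * b, mul_mem (inv_mem ha) hb, by rw [← hbe]; group⟩
    obtain ⟨-, c, hc, hce⟩ := hshift _ h2 fun e => hne' (by
      rw [← hae, ← e]; group)
    refine ⟨mul_mem hrR hr'R, a * c, mul_mem ha hc, ?_⟩
    calc a * c * z₁ * (a * c)⁻¹ = a * (c * z₁ * c⁻¹) * a⁻¹ := by group
      _ = r' * r := by rw [hce, ← hae]; group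
      _ = r * r' := hRc r' hr'R r hrR
  let W : Subgroup G :=
    { carrier := insert 1 Γ
      one_mem' := Set.mem_insert _ _
      mul_mem' := fun {x y} hx hy => by
        rcases Set.mem_insert_iff.1 hx with rfl | hx
        · rwa [one_mul]
        rcases Set.mem_insert_iff.1 hy with rfl | hy
        · rw [mul_one]; exact Set.mem_insert_of_mem _ hx
        by_cases e : x = y
        · subst e
          left
          nth_rewrite 1 [← hinv x hx.1]
          exact inv_mul_cancel x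
        · exact Set.mem_insert_of_mem _ (hclosed x hx y hy e)
      inv_mem' := fun {x} hx => by
        rcases Set.mem_insert_iff.1 hx with rfl | hx
        · simp
        · rw [hinv x hx.1]; exact Set.mem_insert_of_mem _ hx }
  have hWR : W ≤ R := by
    intro x hx
    rcases Set.mem_insert_iff.1 hx with rfl | hx
    · exact one_mem R
    · exact hx.1
  have hodd : Odd (Nat.card Γ) := by
    obtain ⟨m, hm⟩ := IsPGroup.iff_card.1 (hS.to_le (hWR.trans hR))
    have h1 : Nat.card W = Γ.ncard + 1 := by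
      rw [← Set.ncard_insert_of_notMem (s := Γ) fun h1 => hne1 1 h1 rfl, ← Nat.card_coe_set_eq]
      rfl
    have hpos : 1 ≤ Γ.ncard := (Set.ncard_pos (Set.toFinite Γ)).2 ⟨z₁, hz₁Γ⟩
    rw [Nat.card_coe_set_eq]
    rcases Nat.eq_zero_or_pos m with rfl | hm0
    · omega
    · have : 2 ∣ 2 ^ m := dvd_pow_self 2 hm0.ne'
      rw [← hm, h1] at this
      rw [Nat.odd_iff]; omega
  -- a fixed point of the normalizer
  set T := normalizer ((R.subgroupOf S) : Set S)
  have hTn : ∀ (t : T), ∀ y ∈ R, ((t : S) : G) * y * ((t : S) : G)⁻¹ ∈ R := fun t y hy =>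
    mem_subgroupOf.1 ((mem_normalizer_iff.1 t.2 ⟨y, hR hy⟩).1 (mem_subgroupOf.2 hy))
  let act : MulAction T Γ :=
    { smul := fun t r => ⟨((t : S) : G) * r * ((t : S) : G)⁻¹, hTn t r r.2.1, by
        obtain ⟨a, ha, hae⟩ := r.2.2
        exact ⟨((t : S) : G) * a, mul_mem (le_normalizer (hSL (t : S).2)) ha, by rw [← hae]; group⟩⟩
      one_smul := fun r => Subtype.ext (by
        show ((1 : G)) * (r : G) * (1 : G)⁻¹ = r
        group)
      mul_smul := fun t t' r => Subtype.ext (by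
        show ((t : S) : G) * ((t' : S) : G) * r * (((t : S) : G) * ((t' : S) : G))⁻¹ =
          ((t : S) : G) * (((t' : S) : G) * r * ((t' : S) : G)⁻¹) * ((t : S) : G)⁻¹
        group) }
  have hTp : IsPGroup 2 T := hS.to_subgroup T
  obtain ⟨⟨r, hr⟩, hfix⟩ := hTp.nonempty_fixed_point_of_prime_not_dvd_card Γ (by
    rw [Nat.two_dvd_ne_zero]; exact Nat.odd_iff.1 hodd)
  obtain ⟨hrR, a, ha, hae⟩ := hr
  have hTC : ∀ t : T, ((t : S) : G) * r = r * ((t : S) : G) := fun t =>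
    mul_inv_eq_iff_eq_mul.1 (congrArg Subtype.val (hfix t) : ((t : S) : G) * r * ((t : S) : G)⁻¹ = r)
  let f : T → R := fun t => ⟨a⁻¹ * ((t : S) : G) * a, (hmem _).2 ⟨by
    have := (mem_normalizer_iff.1 (inv_mem ha) _).1 (hSL (t : S).2)
    rwa [inv_inv] at this, by
    calc a⁻¹ * ((t : S) : G) * a * z₁ = a⁻¹ * (((t : S) : G) * r) * a := by rw [← hae]; group
      _ = a⁻¹ * (r * ((t : S) : G)) * a := by rw [hTC]
      _ = z₁ * (a⁻¹ * ((t : S) : G) * a) := by rw [← hae]; group⟩⟩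
  have hf : Function.Injective f := fun t t' e => by
    have := congrArg Subtype.val e
    exact Subtype.ext (Subtype.ext (by simpa [f] using this))
  have hle := Nat.card_le_card_of_injective f hf
  have hcardR : Nat.card (R.subgroupOf S) = Nat.card R := Nat.card_congr (subgroupOfEquivOfLe hR).toEquiv
  exact hlt'.ne (eq_of_le_of_card_ge hlt'.le (by rw [hcardR]; exact hle))

end Moved

end CfsgLib.LargeXS
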