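import Mathlib
import Cfsg.Agent.Lib.LargeXS.Simple
import Cfsg.Agent.Lib.LargeXS.Congr
import Cfsg.Agent.Lib.LargeXSpecial.Config
import Cfsg.Agent.Lib.LargeXSpecial.Sub
import Cfsg.Agent.Lib.Extraspecial.Card
import Cfsg.Agent.Lib.Solvable.Core
import Cfsg.Prelude.Def_CaseTheorems
import Cfsg.Agent.S5422
import Cfsg.Agent.S5434

/-! The fixed points in an extraspecial 2-subgroup of a group of odd order, modulo that group. -/

set_option autoImplicit false

namespace CfsgLib.LargeXS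

open Subgroup

variable {G : Type*} [Group G] [Finite G]

/-- An element of odd order times a commuting 2-element is a 2-element only trivially. -/
theorem eq_one_of_conj_eq {A R : Subgroup G} (hA : Odd (Nat.card A)) (hR : IsPGroup 2 R) {a r c : G}
    (ha : a ∈ A) (hr : r ∈ R) (har : a * r = r * a) (hc : c * r * c⁻¹ = a * r) : a = 1 := by
  obtain ⟨k, hk⟩ := hR ⟨r, hr⟩
  have hk' : r ^ 2 ^ k = 1 := congrArg Subtype.val hk
  have h1 : (a * r) ^ 2 ^ k = 1 := by rw [← hc, conj_pow, hk', mul_one, mul_inv_cancel]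
  rw [Commute.mul_pow har, hk', mul_one] at h1
  obtain ⟨i, -, hi⟩ := (Nat.dvd_prime_pow Nat.prime_two).1 (orderOf_dvd_of_pow_eq_one h1)
  exact eq_one_of_mem_odd_two (P := zpowers a)
    (IsPGroup.of_card (p := 2) (n := i) (by rw [Nat.card_zpowers, hi])) hA (mem_zpowers a) ha

/-- Fixed points of a group of odd order move a fixed non-central element. -/
theorem exists_fixed_move {Q : Subgroup G} {z : G} (hQ : Cfsg.IsLargeExtraspecial Q) (h : XPair Q z)
    {A : Subgroup G} (hA : A ≤ normalizer (Q : Set G)) (hAodd : Odd (Nat.card A)) {t : G} (ht : t ∈ Q)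
    (htA : t ∈ centralizer (A : Set G)) (ht1 : t ≠ 1) (htz : t ≠ z) :
    ∃ q ∈ Q ⊓ centralizer (A : Set G), q * t * q⁻¹ = t * z := by
  obtain ⟨q, hq, hqt⟩ := h.exists_conj_eq_mul ht ht1 htz
  by_cases hA1 : A = ⊥
  · have hc : q ∈ centralizer (A : Set G) := mem_centralizer_iff.2 fun a ha => by
      have h1 : a ∈ (⊥ : Subgroup G) := hA1 ▸ ha
      rw [mem_bot.1 h1, one_mul, mul_one]
    exact ⟨q, ⟨hq, hc⟩, hqt⟩
  obtain ⟨hsup, hcomm, -, -⟩ := Cfsg.Agent.S5434.result Q hQ A hA hAodd hA1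
  by_contra! hcon
  have hle : Q ≤ centralizer ({t} : Set G) := by
    conv_lhs => rw [← hsup]
    refine sup_le (fun c hc => mem_centralizer_singleton_iff.2 ?_)
      fun c hc => mem_centralizer_singleton_iff.2 (hcomm t ⟨ht, htA⟩ c hc).symm
    exact mul_inv_eq_iff_eq_mul.1 ((h.conj_cases hc.1 ht).resolve_right (hcon c hc))
  rw [mul_inv_eq_iff_eq_mul.2 (mem_centralizer_singleton_iff.1 (hle hq))] at hqt
  exact h.ne_one (mul_left_cancel (a := t) (by rw [mul_one]; exact hqt.symm))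

theorem fixed_quotient (z : G) (hz : orderOf z = 2) (Q : Subgroup G) (hQC : Q ≤ centralizer ({z} : Set G))
    (hF : (Cfsg.generalizedFittingSubgroup ↥(centralizer ({z} : Set G))).map
      (centralizer ({z} : Set G)).subtype = Q)
    (hQ : Cfsg.IsExtraspecial 2 ↥Q) (A : Subgroup G) (hA : A ≤ centralizer ({z} : Set G))
    (hAodd : Odd (Nat.card ↥A)) (R : Subgroup G) (hR : R = Q ⊓ centralizer (A : Set G))
    (hR32 : 32 ≤ Nat.card ↥R)
    (hO : (Cfsg.oddCore ↥(centralizer ((A ⊔ R : Subgroup G) : Set G))).map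
      (centralizer ((A ⊔ R : Subgroup G) : Set G)).subtype ≤ A)
    (h4 : ¬ 4 ∣ Nat.card ↥(centralizer ((A ⊔ R : Subgroup G) : Set G))) (g : G) (hgR : g * z * g⁻¹ ∈ R)
    (hgZ : g * z * g⁻¹ ∉ ((Subgroup.center ↥Q).map Q.subtype)) (M : Subgroup G)
    (hM : M = centralizer (A : Set G) ⊔ A) [hn : (A.subgroupOf M).Normal] :
    (M ⊓ centralizer ((R ⊔ A : Subgroup G) : Set G)) ⊔ A = A ⊔ ((Subgroup.center ↥Q).map Q.subtype) ∧
      Cfsg.IsLargeExtraspecial ((R.subgroupOf M).map (QuotientGroup.mk' (A.subgroupOf M))) ∧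
      ∃ x ∈ R ⊔ ((Q).map (MulAut.conj g).toMonoidHom ⊓ centralizer (A : Set G)),
        x * (g * z * g⁻¹) * x⁻¹ = z := by
  haveI : Fact (Nat.Prime 2) := ⟨Nat.prime_two⟩
  have hb : Base Q z := base_of hz hQC hF hQ
  have h := hb.pair
  set v := g * z * g⁻¹ with hv
  have hRQ : R ≤ Q := hR ▸ inf_le_left
  have hRA : R ≤ centralizer (A : Set G) := hR ▸ inf_le_right
  have hvz : v ≠ z := fun e => hgZ (e.symm ▸ hb.center_eq ▸ mem_zpowers z)
  have hv1 : v ≠ 1 := fun e => h.ne_one (conj_eq_one_iff.1 e)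
  obtain ⟨w, hw1, hw⟩ := Extraspecial.exists_card (p := 2) hQ
  have hw2 : 2 ≤ w := by
    by_contra hlt
    have : Nat.card R ≤ 2 ^ 3 := (card_le_of_le hRQ).trans (hw ▸ Nat.pow_le_pow_right (by norm_num) (by omega))
    omega
  have hw' : Nat.card Q = 2 ^ (2 * w + 1) := by rw [hw, add_comm]
  have hgH : g ∉ centralizer ({z} : Set G) := fun hh => hvz (by
    rw [hv, mem_centralizer_singleton_iff.1 hh, mul_inv_cancel_right])
  have hlarge : Cfsg.IsLargeExtraspecial Q := by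
    refine (Cfsg.Agent.S5422.result Q hQ hb.cent hb.norm w hw2 hw' g ?_ ?_).2.2
    · intro hk
      have := (mem_normalizer_iff.1 hk z).1 (hb.center_eq ▸ mem_zpowers z)
      exact hgZ this
    · rw [hb.center_eq, MonoidHom.map_zpowers, zpowers_le]
      exact hRQ hgR
  have hzA : z ∈ centralizer (A : Set G) := mem_centralizer_iff.2 fun a ha =>
    mem_centralizer_singleton_iff.1 (hA ha)
  have hzR : z ∈ R := hR ▸ ⟨h.mem, hzA⟩
  have hAQ : A ≤ normalizer (Q : Set G) := fun a ha => h.le_normalizer a (mem_centralizer_singleton_iff.1 (hA ha))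
  -- the two swaps
  have hconf := xconfig_of h hgH (hRQ hgR) (by rw [hw']; calc 16 = 2 ^ 4 := by norm_num
                                                            _ ≤ _ := Nat.pow_le_pow_right (by norm_num) (by omega))
  set Qv := Q.map (MulAut.conj g).toMonoidHom with hQv
  obtain ⟨r, hrm, hrv⟩ := exists_fixed_move hlarge h hAQ hAodd (hRQ hgR) (hRA hgR) hv1 hvz
  have hAv : ∀ a ∈ A, a * v = v * a := fun a ha => mem_centralizer_iff.1 (hRA hgR) a ha
  obtain ⟨y, hym, hyz⟩ : ∃ y ∈ Qv ⊓ centralizer (A : Set G), y * z * y⁻¹ = z * v := by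
    set A' := A.map (MulAut.conj g⁻¹).toMonoidHom with hA'
    have hA'odd : Odd (Nat.card A') := by
      rw [hA', card_map_of_injective (MulAut.conj g⁻¹).injective]; exact hAodd
    have hmem' : ∀ a ∈ A', g * a * g⁻¹ ∈ A := fun a ha => by
      have := mem_map_conj.1 ha
      rwa [inv_inv] at this
    have hA'N : A' ≤ normalizer (Q : Set G) := fun a ha => h.le_normalizer a (by
      calc a * z = g⁻¹ * (g * a * g⁻¹ * v) * g := by rw [hv]; group
        _ = g⁻¹ * (v * (g * a * g⁻¹)) * g := by rw [hAv _ (hmem' a ha)]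
        _ = z * a := by rw [hv]; group)
    have ht : g⁻¹ * z * g ∈ Q := mem_map_conj.1 hconf.z_mem
    have htA : g⁻¹ * z * g ∈ centralizer (A' : Set G) := mem_centralizer_iff.2 fun a ha => by
      calc a * (g⁻¹ * z * g) = g⁻¹ * (g * a * g⁻¹ * z) * g := by group
        _ = g⁻¹ * (z * (g * a * g⁻¹)) * g := by rw [mem_centralizer_singleton_iff.1 (hA (hmem' a ha))]
        _ = g⁻¹ * z * g * a := by group
    obtain ⟨q, ⟨hq, hqA⟩, hqt⟩ := exists_fixed_move hlarge h hA'N hA'odd ht htA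
      (fun e => h.ne_one (by calc z = g * (g⁻¹ * z * g) * g⁻¹ := by group
                                _ = 1 := by rw [e]; group))
      (fun e => hvz (by calc v = g * z * g⁻¹ := hv
                            _ = g * (g⁻¹ * z * g) * g⁻¹ := by rw [e]
                            _ = z := by group))
    refine ⟨g * q * g⁻¹, ⟨mem_map_conj.2 (by simpa [mul_assoc] using hq), mem_centralizer_iff.2 fun a ha => ?_⟩, ?_⟩
    · have h1 : g⁻¹ * a * g ∈ A' := mem_map_conj.2 (by rw [inv_inv]; simpa [mul_assoc] using ha)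
      calc a * (g * q * g⁻¹) = g * ((g⁻¹ * a * g) * q) * g⁻¹ := by group
        _ = g * (q * (g⁻¹ * a * g)) * g⁻¹ := by rw [mem_centralizer_iff.1 hqA _ h1]
        _ = g * q * g⁻¹ * a := by group
    · calc g * q * g⁻¹ * z * (g * q * g⁻¹)⁻¹ = g * (q * (g⁻¹ * z * g) * q⁻¹) * g⁻¹ := by group
        _ = z * v := by rw [hqt, hv]; group
  have hxv : y * r * v * (y * r)⁻¹ = z := by
    calc y * r * v * (y * r)⁻¹ = y * (r * v * r⁻¹) * y⁻¹ := by group
      _ = y * v * y⁻¹ * (y * z * y⁻¹) := by rw [hrv]; group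
      _ = v * (z * v) := by rw [hyz, mul_inv_eq_iff_eq_mul.2 (hconf.right.central y hym.1)]
      _ = v * (v * z) := by rw [hconf.comm_vz]
      _ = z := by rw [← mul_assoc, hconf.right.mul_self, one_mul]
  have hxmem : y * r ∈ R ⊔ (Qv ⊓ centralizer (A : Set G)) :=
    mul_mem (mem_sup_right hym) (mem_sup_left (hR ▸ hrm))
  -- the centralizer of `A R`
  set D := centralizer ((A ⊔ R : Subgroup G) : Set G) with hD
  have hDA : D ≤ centralizer (A : Set G) := centralizer_le (SetLike.coe_subset_coe.2 le_sup_left)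
  have hDR : D ≤ centralizer (R : Set G) := centralizer_le (SetLike.coe_subset_coe.2 le_sup_right)
  have hzD : z ∈ D := by
    have hle : A ⊔ R ≤ centralizer ({z} : Set G) := sup_le hA (hRQ.trans hQC)
    exact mem_centralizer_iff.2 fun x hx => mem_centralizer_singleton_iff.1 (hle hx)
  have hDle : D ≤ A ⊔ (Subgroup.center ↥Q).map Q.subtype := by
    obtain ⟨S, hS⟩ := (IsPGroup.of_card (p := 2) (n := 1) (G := ↥(zpowers (⟨z, hzD⟩ : D))) (by
      rw [Nat.card_zpowers, orderOf_mk, hz, pow_one])).exists_le_sylow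
    have hScard : Nat.card ↥(S : Subgroup D) = 2 := by
      obtain ⟨k, hk⟩ := IsPGroup.iff_card.1 S.2
      have h2 : 2 ∣ Nat.card ↥(S : Subgroup D) := by
        refine Nat.dvd_trans ?_ (card_dvd_of_le hS)
        rw [Nat.card_zpowers, orderOf_mk, hz]
      have hk2 : k < 2 := by
        by_contra hk2
        exact h4 (dvd_trans (by rw [hk]; exact pow_dvd_pow 2 (not_lt.1 hk2)) (card_subgroup_dvd_card (S : Subgroup D)))
      interval_cases k
      · rw [hk] at h2; norm_num at h2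
      · simpa using hk
    have hSz : (S : Subgroup D) = zpowers (⟨z, hzD⟩ : D) :=
      (eq_of_le_of_card_ge hS (by rw [hScard, Nat.card_zpowers, orderOf_mk, hz])).symm
    have hcen : normalizer ((S : Subgroup D) : Set D) ≤ centralizer ((S : Subgroup D) : Set D) := by
      intro d _
      rw [hSz]
      refine mem_centralizer_iff.2 fun s hs => ?_
      obtain ⟨k, rfl⟩ := mem_zpowers_iff.1 hs
      have : Commute (⟨z, hzD⟩ : D) d := Subtype.ext (mem_centralizer_iff.1 (hDR d.2) z hzR)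
      exact (this.zpow_left k).eq
    have hcompl := MonoidHom.ker_transferSylow_isComplement' S hcen
    set K := (MonoidHom.transferSylow S hcen).ker
    have hKcop : (Nat.card K).Coprime 2 := by
      rw [← hcompl.index_eq_card]
      exact (Nat.prime_two.coprime_iff_not_dvd.2 S.not_dvd_index).symm
    have hKA : K.map D.subtype ≤ A :=
      le_trans (map_mono (Solvable.le_pPrimeCore inferInstance hKcop)) hO
    intro d hd
    have htop : (⟨d, hd⟩ : D) ∈ K ⊔ (S : Subgroup D) := by rw [hcompl.sup_eq_top]; exact mem_top _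
    have hle : (K ⊔ (S : Subgroup D)).map D.subtype ≤ A ⊔ (Subgroup.center ↥Q).map Q.subtype := by
      rw [Subgroup.map_sup]
      refine sup_le_sup hKA ?_
      rw [hSz, MonoidHom.map_zpowers, hb.center_eq]
      exact le_rfl
    exact hle ⟨_, htop, rfl⟩
  have hC : centralizer (A : Set G) ≤ M := hM ▸ le_sup_left
  have hAM : A ≤ M := hM ▸ le_sup_right
  have hRM : R ≤ M := hRA.trans hC
  refine ⟨?_, ?_, _, hxmem, hxv⟩
  · rw [sup_comm R A, ← hD, inf_eq_right.2 (hDA.trans hC)]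
    refine le_antisymm (sup_le hDle le_sup_left) (sup_le le_sup_right ?_)
    rw [hb.center_eq, zpowers_le]
    exact mem_sup_left hzD
  set π := QuotientGroup.mk' (A.subgroupOf M) with hπ
  set R' := (R.subgroupOf M).map π with hR'
  have hker : ∀ m : M, π m = 1 ↔ (m : G) ∈ A := fun m => (QuotientGroup.eq_one_iff m).trans mem_subgroupOf
  have hR'mem : ∀ r (hr : r ∈ R), π ⟨r, hRM hr⟩ ∈ R' := fun r hr => ⟨_, mem_subgroupOf.2 hr, rfl⟩
  have hinj : ∀ m : M, (m : G) ∈ R → π m = 1 → m = 1 := fun m hm hm1 =>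
    Subtype.ext (eq_one_of_mem_odd_two (h.two.to_le hRQ) hAodd hm ((hker m).1 hm1))
  -- R is extraspecial with centre generated by z
  obtain ⟨hRE, -⟩ := h.isExtraspecial_of_center_le hRQ ⟨v, hgR, hv1, hvz⟩ fun x hx hxc => by
    by_contra! hcon
    obtain ⟨q, hq, hqx⟩ := exists_fixed_move hlarge h hAQ hAodd (hRQ hx) (hRA hx) hcon.1 hcon.2
    rw [mul_inv_eq_iff_eq_mul.2 (hxc q (hR ▸ hq))] at hqx
    exact h.ne_one (mul_left_cancel (a := x) (by rw [mul_one]; exact hqx.symm))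
  let e : ↥R ≃* ↥R' := ((subgroupOfEquivOfLe hRM).symm).trans
    (MulEquiv.ofBijective ((π.comp (R.subgroupOf M).subtype).codRestrict R' fun x => ⟨x, x.2, rfl⟩)
      ⟨(injective_iff_map_eq_one _).2 fun x hx => Subtype.ext (hinj x x.2 (congrArg Subtype.val hx)),
        fun ⟨_, x, hx, rfl⟩ => ⟨⟨x, hx⟩, rfl⟩⟩)
  have hR'E : Cfsg.IsExtraspecial 2 ↥R' := isExtraspecial_congr e hRE
  have hdecomp : ∀ m : M, ∃ c, ∃ hc : c ∈ centralizer (A : Set G), π m = π ⟨c, hC hc⟩ := by
    intro m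
    have hNA : centralizer (A : Set G) ≤ normalizer (A : Set G) := centralizer_le_normalizer _
    have hm : (m : G) ∈ ((centralizer (A : Set G) ⊔ A : Subgroup G) : Set G) := hM ▸ m.2
    rw [coe_mul_of_left_le_normalizer_right _ _ hNA] at hm
    obtain ⟨c, hc, a, ha, hca⟩ := hm
    refine ⟨c, hc, ?_⟩
    rw [show m = ⟨c, hC hc⟩ * ⟨a, hAM ha⟩ from Subtype.ext hca.symm, map_mul, (hker ⟨a, hAM ha⟩).2 ha, mul_one]
  have hlift : ∀ c (hc : c ∈ centralizer (A : Set G)), ∀ r (hr : r ∈ R),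
      Commute (π ⟨c, hC hc⟩) (π ⟨r, hRM hr⟩) → c * r = r * c := by
    intro c hc r hr hcomm
    have h1 : π (⟨c, hC hc⟩ * ⟨r, hRM hr⟩ * ⟨c, hC hc⟩⁻¹ * ⟨r, hRM hr⟩⁻¹) = 1 := by
      rw [map_mul, map_mul, map_mul, map_inv, map_inv, hcomm.eq]; group
    have ha : c * r * c⁻¹ * r⁻¹ ∈ A := (hker _).1 h1
    have := eq_one_of_conj_eq (c := c) hAodd (h.two.to_le hRQ) ha hr
      (mem_centralizer_iff.1 (hRA hr) _ ha) (by group)
    exact mul_inv_eq_iff_eq_mul.1 (mul_inv_eq_one.1 this)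
  have hcenterR : ∀ x, x ∈ (Subgroup.center ↥R').map R'.subtype ↔
      x ∈ R' ∧ ∀ s ∈ R', s * x = x * s := by
    intro x
    constructor
    · rintro ⟨y, hy, rfl⟩
      exact ⟨y.2, fun s hs => congrArg Subtype.val (mem_center_iff.1 hy ⟨s, hs⟩)⟩
    · exact fun ⟨hx, hxc⟩ => ⟨⟨x, hx⟩, mem_center_iff.2 fun s => Subtype.ext (hxc s s.2), rfl⟩
  have hz' : (Subgroup.center ↥R').map R'.subtype = zpowers (π ⟨z, hRM hzR⟩) := by
    refine (eq_of_le_of_card_ge (zpowers_le.2 ((hcenterR _).2 ⟨hR'mem z hzR, ?_⟩)) ?_).symm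
    · rintro _ ⟨s, hs, rfl⟩
      rw [← map_mul, ← map_mul]
      exact congrArg π (Subtype.ext (h.central s (hRQ (mem_subgroupOf.1 hs))))
    · rw [card_map_of_injective R'.subtype_injective, hR'E.2, Nat.card_zpowers]
      refine le_of_eq (orderOf_eq_prime ?_ fun e => h.ne_one (congrArg Subtype.val (hinj _ hzR e))).symm
      rw [pow_two, ← map_mul, show (⟨z, hRM hzR⟩ * ⟨z, hRM hzR⟩ : M) = 1 from Subtype.ext h.mul_self, map_one]
  have hcent' : centralizer (R' : Set (↥M ⧸ A.subgroupOf M)) = (Subgroup.center ↥R').map R'.subtype := by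
    refine le_antisymm ?_ fun x hx => mem_centralizer_iff.2 ((hcenterR x).1 hx).2
    intro x hx
    obtain ⟨m, rfl⟩ := QuotientGroup.mk'_surjective _ x
    obtain ⟨c, hc, hce⟩ := hdecomp m
    rw [hce] at hx ⊢
    have hcD : c ∈ D := by
      have hle : A ⊔ R ≤ centralizer ({c} : Set G) := sup_le
        (fun a ha => mem_centralizer_singleton_iff.2 (mem_centralizer_iff.1 hc a ha))
        (fun r hr => mem_centralizer_singleton_iff.2
          (hlift c hc r hr (mem_centralizer_iff.1 hx _ (hR'mem r hr)).symm).symm)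
      exact mem_centralizer_iff.2 fun x hx => mem_centralizer_singleton_iff.1 (hle hx)
    have hle : (A.subgroupOf M ⊔ zpowers ⟨z, hRM hzR⟩).map π ≤ zpowers (π ⟨z, hRM hzR⟩) := by
      rw [Subgroup.map_sup, MonoidHom.map_zpowers]
      exact sup_le ((Subgroup.map_le_iff_le_comap).2 fun m hm => by
        rw [mem_comap, (hker m).2 (mem_subgroupOf.1 hm)]; exact one_mem _) le_rfl
    rw [hz']
    refine hle ⟨⟨c, hC hc⟩, ?_, rfl⟩
    have h2 := hDle hcD
    rw [hb.center_eq] at h2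
    have : (A.subgroupOf M ⊔ zpowers (⟨z, hRM hzR⟩ : M)).map M.subtype = A ⊔ zpowers z := by
      rw [Subgroup.map_sup, MonoidHom.map_zpowers, subgroupOf_map_subtype, inf_eq_left.2 hAM]
      rfl
    rw [← this] at h2
    obtain ⟨m', hm', e'⟩ := h2
    rwa [← show m' = ⟨c, hC hc⟩ from Subtype.ext e']
  have hnorm' : centralizer (((Subgroup.center ↥R').map R'.subtype : Subgroup _) : Set (↥M ⧸ A.subgroupOf M)) ≤
      normalizer (R' : Set (↥M ⧸ A.subgroupOf M)) := by
    rw [centralizer_zpowers hz']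
    intro x hx
    obtain ⟨m, rfl⟩ := QuotientGroup.mk'_surjective _ x
    obtain ⟨c, hc, hce⟩ := hdecomp m
    rw [hce] at hx ⊢
    have hcz := hlift c hc z hzR (mem_centralizer_singleton_iff.1 hx)
    have hcN : ∀ d, d ∈ centralizer (A : Set G) → d * z = z * d → ∀ s, s ∈ R → d * s * d⁻¹ ∈ R := by
      intro d hd hdz s hs
      rw [hR]
      exact ⟨h.norm d hdz s (hRQ hs), (centralizer (A : Set G)).mul_mem ((centralizer (A : Set G)).mul_mem hd (hRA hs)) ((centralizer (A : Set G)).inv_mem hd)⟩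
    refine mem_normalizer_fintype ?_
    rintro _ ⟨s, hs, rfl⟩
    exact ⟨⟨c, hC hc⟩ * s * ⟨c, hC hc⟩⁻¹, mem_subgroupOf.2 (hcN c hc hcz s (mem_subgroupOf.1 hs)),
      by simp only [map_mul, map_inv]⟩
  obtain ⟨w', hw1', hwR⟩ := Extraspecial.exists_card (p := 2) hR'E
  have hcR' : Nat.card R' = Nat.card R := (Nat.card_congr e.toEquiv).symm
  have hw2' : 2 ≤ w' := by
    by_contra hlt
    have : Nat.card R' ≤ 2 ^ 3 := hwR ▸ Nat.pow_le_pow_right (by norm_num) (by omega)
    omega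
  have hxA : y * r ∈ centralizer (A : Set G) := mul_mem hym.2 hrm.2
  refine (Cfsg.Agent.S5422.result R' hR'E hcent' hnorm' w' hw2' (by rw [hwR, add_comm])
    (π ⟨(y * r)⁻¹, hC (inv_mem hxA)⟩) ?_ ?_).2.2
  · intro hk
    have h1 := (mem_normalizer_iff.1 hk _).1 (hz' ▸ mem_zpowers (π ⟨z, hRM hzR⟩))
    rw [← map_inv, ← map_mul, ← map_mul, hz',
      show (⟨(y * r)⁻¹, hC (inv_mem hxA)⟩ * ⟨z, hRM hzR⟩ * ⟨(y * r)⁻¹, hC (inv_mem hxA)⟩⁻¹ : M) =
        ⟨v, hRM hgR⟩ from Subtype.ext (by show (y * r)⁻¹ * z * (y * r)⁻¹⁻¹ = v; rw [← hxv]; group)] at h1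
    rcases (mem_zpowers_iff_eq hR'E hz').1 h1 with e1 | e1
    · exact hv1 (congrArg Subtype.val (hinj ⟨v, hRM hgR⟩ hgR e1))
    · have h2 : π (⟨v, hRM hgR⟩ * ⟨z, hRM hzR⟩⁻¹) = 1 := by rw [map_mul, map_inv, e1, mul_inv_cancel]
      exact hvz (mul_inv_eq_one.1 (congrArg Subtype.val (hinj _ (mul_mem hgR (inv_mem hzR)) h2)))
  · rw [hz', MonoidHom.map_zpowers, zpowers_le]
    show π _ * π _ * (π _)⁻¹ ∈ R'
    rw [← map_inv, ← map_mul, ← map_mul,
      show (⟨(y * r)⁻¹, hC (inv_mem hxA)⟩ * ⟨z, hRM hzR⟩ * ⟨(y * r)⁻¹, hC (inv_mem hxA)⟩⁻¹ : M) =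
        ⟨v, hRM hgR⟩ from Subtype.ext (by show (y * r)⁻¹ * z * (y * r)⁻¹⁻¹ = v; rw [← hxv]; group)]
    exact hR'mem v hgR

end CfsgLib.LargeXS
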