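import Mathlib
import Cfsg.Agent.Lib.LargeXS.Simple
import Cfsg.Agent.Lib.LargeXS.OfCommutators
import Cfsg.Agent.Lib.LargeXSpecial.Config
import Cfsg.Agent.Lib.Extraspecial.Card
import Cfsg.Agent.S5422

/-! The centralizer in an extraspecial 2-subgroup of an involution, modulo that involution. -/

set_option autoImplicit false

namespace CfsgLib.LargeXS

open Subgroup

variable {G : Type*} [Group G] [Finite G] {Q : Subgroup G} {z t : G}

omit [Finite G] in
/-- Either an element is moved to `u z` by an element commuting with `t`, or it is one of four. -/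
theorem XPair.exists_move (h : XPair Q z) (ht : t ∈ Q) (ht1 : t ≠ 1) (htz : t ≠ z) {u : G} (hu : u ∈ Q)
    (hu1 : u ≠ 1) (huz : u ≠ z) (hut : u ≠ t) (hutz : u ≠ t * z) :
    ∃ q ∈ Q, q * t = t * q ∧ q * u * q⁻¹ = u * z := by
  by_contra! hcon
  obtain ⟨a, ha, hat⟩ := h.exists_conj_eq_mul ht ht1 htz
  have hzz : z * z = 1 := h.mul_self
  have hP : ∀ q ∈ Q, q * t = t * q → q * u = u * q := fun q hq hqt =>
    mul_inv_eq_iff_eq_mul.1 ((h.conj_cases hq hu).resolve_right (hcon q hq hqt))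
  have hrest : ∀ q ∈ Q, ¬ q * t = t * q → (a⁻¹ * q) * u = u * (a⁻¹ * q) := by
    intro q hq hqt
    refine hP _ (mul_mem (inv_mem ha) hq) (mul_inv_eq_iff_eq_mul.1 ?_)
    have hq' : q * t * q⁻¹ = t * z := (h.conj_cases hq ht).resolve_left fun e => hqt (mul_inv_eq_iff_eq_mul.1 e)
    calc a⁻¹ * q * t * (a⁻¹ * q)⁻¹ = a⁻¹ * (q * t * q⁻¹) * a := by group
      _ = a⁻¹ * (a * t * a⁻¹) * a := by rw [hq', hat]
      _ = t := by group
  have key : ∀ w ∈ Q, a * w = w * a → (∀ q ∈ Q, q * t = t * q → q * w = w * q) → w = 1 ∨ w = z := by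
    intro w _ haw hw
    refine h.selfCent w fun q hq => ?_
    by_cases hqt : q * t = t * q
    · exact hw q hq hqt
    · have h1 : (a⁻¹ * q) * w = w * (a⁻¹ * q) := by
        refine hw _ (mul_mem (inv_mem ha) hq) (mul_inv_eq_iff_eq_mul.1 ?_)
        have hq' : q * t * q⁻¹ = t * z :=
          (h.conj_cases hq ht).resolve_left fun e => hqt (mul_inv_eq_iff_eq_mul.1 e)
        calc a⁻¹ * q * t * (a⁻¹ * q)⁻¹ = a⁻¹ * (q * t * q⁻¹) * a := by group
          _ = a⁻¹ * (a * t * a⁻¹) * a := by rw [hq', hat]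
          _ = t := by group
      have := (Commute.mul_left (show Commute a w from haw) (show Commute (a⁻¹ * q) w from h1)).eq
      simpa using this
  rcases h.conj_cases ha hu with e | e
  · rcases key u hu (mul_inv_eq_iff_eq_mul.1 e) hP with e' | e'
    · exact hu1 e'
    · exact huz e'
  · have hw : a * (u * t⁻¹) = u * t⁻¹ * a := by
      refine mul_inv_eq_iff_eq_mul.1 ?_
      calc a * (u * t⁻¹) * a⁻¹ = (a * u * a⁻¹) * (a * t * a⁻¹)⁻¹ := by group
        _ = u * (z * z⁻¹) * t⁻¹ := by rw [e, hat]; group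
        _ = u * t⁻¹ := by rw [mul_inv_cancel, mul_one]
    rcases key _ (mul_mem hu (inv_mem ht)) hw (fun q hq hqt =>
        ((show Commute q u from hP q hq hqt).mul_right (show Commute q t from hqt).inv_right).eq) with e' | e'
    · exact hut (mul_inv_eq_one.1 e')
    · exact hutz (by rw [mul_inv_eq_iff_eq_mul.1 e', h.central t ht])

theorem involution_quotient (z : G) (hz : orderOf z = 2) (Q : Subgroup G)
    (hQC : Q ≤ centralizer ({z} : Set G))
    (hF : (Cfsg.generalizedFittingSubgroup ↥(centralizer ({z} : Set G))).map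
      (centralizer ({z} : Set G)).subtype = Q)
    (hQ : Cfsg.IsExtraspecial 2 ↥Q) (w : ℕ) (hw : 3 ≤ w) (hcard : Nat.card ↥Q = 2 ^ (2 * w + 1)) (g : G)
    (hgQ : g * z * g⁻¹ ∈ Q) (hgZ : g * z * g⁻¹ ∉ ((Subgroup.center ↥Q).map Q.subtype)) (t : G)
    (ht : orderOf t = 2) (htQ : t ∈ Q ⊓ (Q).map (MulAut.conj g).toMonoidHom) (htz : ¬ IsConj z t)
    (P : Subgroup G) (hP : P = Q ⊓ centralizer ({t} : Set G))
    (hCP : ∀ c ∈ centralizer ({z} : Set G),
      (∀ x ∈ P, ∃ y ∈ closure ({t, z} : Set G), c * x * c⁻¹ = x * y) ↔ c ∈ Q)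
    [hn : ((zpowers t).subgroupOf (centralizer ({t} : Set G))).Normal] :
    Cfsg.IsLargeExtraspecial ((P.subgroupOf (centralizer ({t} : Set G))).map
        (QuotientGroup.mk' ((zpowers t).subgroupOf (centralizer ({t} : Set G))))) ∧
      ∃ x ∈ P ⊔ ((Q).map (MulAut.conj g).toMonoidHom ⊓ centralizer ({t} : Set G)),
        x * (g * z * g⁻¹) * x⁻¹ = z := by
  haveI : Fact (Nat.Prime 2) := ⟨Nat.prime_two⟩
  have hb : Base Q z := base_of hz hQC hF hQ
  have h := hb.pair
  set v := g * z * g⁻¹ with hv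
  obtain ⟨htQ, htQv⟩ := htQ
  have hconjzv : IsConj z v := isConj_iff.2 ⟨g, rfl⟩
  have hvz : v ≠ z := fun e => hgZ (e.symm ▸ hb.center_eq ▸ mem_zpowers z)
  have hv1 : v ≠ 1 := fun e => h.ne_one (conj_eq_one_iff.1 e)
  have ht1 : t ≠ 1 := fun e => by rw [e, orderOf_one] at ht; norm_num at ht
  have ht2 : t * t = 1 := by rw [← pow_two, ← ht]; exact pow_orderOf_eq_one t
  have htz' : t ≠ z := fun e => htz (e ▸ IsConj.refl z)
  have htv : t ≠ v := fun e => htz (e ▸ hconjzv)
  have hgH : g ∉ centralizer ({z} : Set G) := fun hh => hvz (by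
    rw [hv, mem_centralizer_singleton_iff.1 hh, mul_inv_cancel_right])
  have hconf := xconfig_of h hgH hgQ (by
    rw [hcard]; calc 16 = 2 ^ 4 := by norm_num
                  _ ≤ _ := Nat.pow_le_pow_right (by norm_num) (by omega))
  set Qv := Q.map (MulAut.conj g).toMonoidHom with hQv
  have hPmem : ∀ x, x ∈ P ↔ x ∈ Q ∧ x * t = t * x := fun x => by
    rw [hP, mem_inf, mem_centralizer_singleton_iff]
  obtain ⟨a, ha, hat⟩ := h.exists_conj_eq_mul htQ ht1 htz'
  have htzconj : IsConj t (t * z) := isConj_iff.2 ⟨a, hat⟩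
  -- the two swaps
  obtain ⟨r, hrQ, hrt, hrv⟩ := h.exists_move htQ ht1 htz' hgQ hv1 hvz htv.symm
    (fun e => htz (hconjzv.trans (e ▸ htzconj.symm)))
  obtain ⟨y, hyQ, hyt, hyz⟩ := hconf.right.exists_move htQv ht1 htv hconf.z_mem h.ne_one hvz.symm htz'.symm
    (fun e => htz (by
      obtain ⟨b, hbm, hbt⟩ := hconf.right.exists_conj_eq_mul htQv ht1 htv
      exact (isConj_iff.2 ⟨b, hbt.trans e.symm⟩).symm))
  have hxt : y * r * t = t * (y * r) := ((show Commute y t from hyt).mul_left hrt).eq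
  have hxv : y * r * v * (y * r)⁻¹ = z := by
    calc y * r * v * (y * r)⁻¹ = y * (r * v * r⁻¹) * y⁻¹ := by group
      _ = y * v * y⁻¹ * (y * z * y⁻¹) := by rw [hrv]; group
      _ = v * (z * v) := by rw [hyz, mul_inv_eq_iff_eq_mul.2 (hconf.right.central y hyQ)]
      _ = v * (v * z) := by rw [hconf.comm_vz]
      _ = z := by rw [← mul_assoc, hconf.right.mul_self, one_mul]
  refine ⟨?_, y * r, mul_mem (mem_sup_right ⟨hyQ, mem_centralizer_singleton_iff.2 hyt⟩)
    (mem_sup_left ((hPmem r).2 ⟨hrQ, hrt⟩)), hxv⟩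
  set C := centralizer ({t} : Set G) with hC
  set π := QuotientGroup.mk' ((zpowers t).subgroupOf C) with hπ
  set P' := (P.subgroupOf C).map π with hP'
  have hPC : P ≤ C := fun x hx => mem_centralizer_singleton_iff.2 ((hPmem x).1 hx).2
  have hker : ∀ m : C, π m = 1 ↔ (m : G) = 1 ∨ (m : G) = t := fun m => by
    refine ((QuotientGroup.eq_one_iff m).trans mem_subgroupOf).trans ?_
    refine ⟨fun hm => ?_, ?_⟩
    · obtain ⟨k, hk⟩ := mem_zpowers_iff.1 hm
      rcases Int.even_or_odd k with ⟨j, rfl⟩ | ⟨j, rfl⟩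
      · left; rw [← hk, ← two_mul, zpow_mul, zpow_two, ht2, one_zpow]
      · right; rw [← hk, zpow_add, zpow_mul, zpow_two, ht2, one_zpow, one_mul, zpow_one]
    · rintro (e | e) <;> rw [e]
      exacts [one_mem _, mem_zpowers t]
  have hzP : z ∈ P := (hPmem z).2 ⟨h.mem, (h.central t htQ).symm⟩
  have hvP : v ∈ P := (hPmem v).2 ⟨hgQ, (hconf.right.central t htQv).symm⟩
  have hmemP' : ∀ x (hx : x ∈ P), π ⟨x, hPC hx⟩ ∈ P' := fun x hx => ⟨_, mem_subgroupOf.2 hx, rfl⟩
  set zb := π ⟨z, hPC hzP⟩ with hzb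
  have hzb1 : zb ≠ 1 := fun e => by
    rcases (hker _).1 e with e' | e'
    · exact h.ne_one e'
    · exact htz' e'.symm
  have hzb2 : zb * zb = 1 := by
    rw [hzb, ← map_mul, show (⟨z, hPC hzP⟩ * ⟨z, hPC hzP⟩ : C) = 1 from Subtype.ext h.mul_self, map_one]
  have hzcase : ∀ c : C, (c : G) = 1 ∨ (c : G) = z → π c = 1 ∨ π c = zb := by
    rintro c (e | e)
    · left; rw [show c = 1 from Subtype.ext e, map_one]
    · right; exact congrArg π (Subtype.ext e)
  -- elements central modulo `t`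
  have hfixz : ∀ c : C, π c * zb * (π c)⁻¹ = zb → (c : G) * z = z * c := by
    intro c hc
    have h1 : π (c * ⟨z, hPC hzP⟩ * c⁻¹ * ⟨z, hPC hzP⟩⁻¹) = 1 := by
      rw [map_mul, map_mul, map_mul, map_inv, map_inv, ← hzb, hc, mul_inv_cancel]
    rcases (hker _).1 h1 with e | e
    · exact mul_inv_eq_iff_eq_mul.1 (mul_inv_eq_one.1 e)
    · exfalso
      have e1 : (c : G) * z * (c : G)⁻¹ = t * z := mul_inv_eq_iff_eq_mul.1 e
      exact htz ((isConj_iff.2 ⟨(c : G), e1⟩ : IsConj z (t * z)).trans htzconj.symm)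
  have hcenP : ∀ x (hx : x ∈ P), (∀ s ∈ P, s * x = x * s) → π ⟨x, hPC hx⟩ = 1 ∨
      π ⟨x, hPC hx⟩ = zb := by
    intro x hx hxc
    obtain ⟨hxQ, hxt⟩ := (hPmem x).1 hx
    have hx4 : x = 1 ∨ x = z ∨ x = t ∨ x = t * z := by
      by_contra! hcon
      obtain ⟨q, hq, hqt, hqx⟩ := h.exists_move htQ ht1 htz' hxQ hcon.1 hcon.2.1 hcon.2.2.1 hcon.2.2.2
      rw [mul_inv_eq_iff_eq_mul.2 (hxc q ((hPmem q).2 ⟨hq, hqt⟩))] at hqx
      exact h.ne_one (mul_left_cancel (a := x) (by rw [mul_one]; exact hqx.symm))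
    rcases hx4 with e | e | e | e
    · exact Or.inl ((hker _).2 (Or.inl e))
    · exact hzcase _ (Or.inr e)
    · exact Or.inl ((hker _).2 (Or.inr e))
    · right
      have ht' : t ∈ C := mem_centralizer_singleton_iff.2 rfl
      rw [show (⟨x, hPC hx⟩ : C) = ⟨t, ht'⟩ * ⟨z, hPC hzP⟩ from Subtype.ext e, map_mul,
        (hker ⟨t, ht'⟩).2 (Or.inr rfl), one_mul]
  have hcommt : ∀ c : C, ∀ x (hx : x ∈ P), Commute (π c) (π ⟨x, hPC hx⟩) →
      (c : G) * x * (c : G)⁻¹ = x ∨ (c : G) * x * (c : G)⁻¹ = t * x := by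
    intro c x hx hc
    have h1 : π (c * ⟨x, hPC hx⟩ * c⁻¹ * ⟨x, hPC hx⟩⁻¹) = 1 := by
      rw [map_mul, map_mul, map_mul, map_inv, map_inv, hc.eq]; group
    rcases (hker _).1 h1 with e | e
    · exact Or.inl (mul_inv_eq_one.1 e)
    · exact Or.inr (mul_inv_eq_iff_eq_mul.1 e)
  -- the centralizer of the image
  have hcentral : ∀ c : C, (∀ x (hx : x ∈ P), Commute (π c) (π ⟨x, hPC hx⟩)) → π c = 1 ∨ π c = zb := by
    intro c hc
    have hcz := hfixz c (mul_inv_eq_iff_eq_mul.2 (hc z hzP).eq)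
    have hcC : (c : G) ∈ centralizer ({z} : Set G) := mem_centralizer_singleton_iff.2 hcz
    have hcQ : (c : G) ∈ Q := (hCP c hcC).1 fun x hx => by
      rcases hcommt c x hx (hc x hx) with e | e
      · exact ⟨1, one_mem _, by rw [e, mul_one]⟩
      · exact ⟨t, subset_closure (Set.mem_insert _ _), by rw [e, ((hPmem x).1 hx).2]⟩
    refine hcenP c ((hPmem c).2 ⟨hcQ, mem_centralizer_singleton_iff.1 c.2⟩) fun s hs => ?_
    rcases hcommt c s hs (hc s hs) with e | e
    · exact (mul_inv_eq_iff_eq_mul.1 e).symm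
    · exfalso
      rcases h.conj_cases hcQ ((hPmem s).1 hs).1 with e' | e' <;> rw [e'] at e
      · exact ht1 (by simpa using e.symm)
      · rw [← ((hPmem s).1 hs).2] at e
        exact htz' (mul_left_cancel e).symm
  have hP'E : Cfsg.IsExtraspecial 2 ↥P' := by
    refine isExtraspecial_of ?_ (c := ⟨zb, hmemP' z hzP⟩) (fun e => hzb1 (congrArg Subtype.val e)) ?_ ?_ ?_ ?_ ?_
    · exact (((h.two.to_le (hP ▸ inf_le_left)).of_equiv (subgroupOfEquivOfLe hPC).symm)).map π
    · rintro ⟨_, x, hx, rfl⟩ ⟨_, y, hy, rfl⟩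
      have := hzcase (x * y * x⁻¹ * y⁻¹) (h.comm x ((hPmem x).1 hx).1 y ((hPmem y).1 hy).1)
      simp only [map_mul, map_inv] at this
      exact this.imp (fun e => Subtype.ext e) fun e => Subtype.ext e
    · rintro ⟨_, x, hx, rfl⟩
      have := hzcase (x * x) (h.sq x ((hPmem x).1 hx).1)
      simp only [map_mul] at this
      exact this.imp (fun e => Subtype.ext e) fun e => Subtype.ext e
    · rintro ⟨_, x, hx, rfl⟩ hxc
      exact (hcentral x fun s hs => (congrArg Subtype.val (hxc ⟨_, hmemP' s hs⟩)).symm).imp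
        (fun e => Subtype.ext e) fun e => Subtype.ext e
    · rintro ⟨_, x, hx, rfl⟩
      refine Subtype.ext ?_
      show π x * zb = zb * π x
      rw [hzb, ← map_mul, ← map_mul]
      exact congrArg π (Subtype.ext (h.central x ((hPmem x).1 hx).1))
    · refine ⟨⟨_, hmemP' v hvP⟩, fun e => ?_, fun e => ?_⟩
      · rcases (hker _).1 (congrArg Subtype.val e) with e' | e'
        · exact hv1 e'
        · exact htv e'.symm
      · have h1 : π (⟨v, hPC hvP⟩ * ⟨z, hPC hzP⟩⁻¹) = 1 := by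
          rw [map_mul, map_inv, ← hzb, show π ⟨v, hPC hvP⟩ = zb from congrArg Subtype.val e, mul_inv_cancel]
        rcases (hker _).1 h1 with e' | e'
        · exact hvz (mul_inv_eq_one.1 e')
        · exact htz ((show v = t * z from mul_inv_eq_iff_eq_mul.1 e') ▸ hconjzv |>.trans htzconj.symm)
  have hz' : (Subgroup.center ↥P').map P'.subtype = zpowers zb := by
    refine (eq_of_le_of_card_ge (zpowers_le.2
      (show zb ∈ (Subgroup.center ↥P').map P'.subtype from ⟨⟨zb, hmemP' z hzP⟩, mem_center_iff.2 ?_, rfl⟩)) ?_).symm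
    · rintro ⟨_, x, hx, rfl⟩
      refine Subtype.ext ?_
      show π x * zb = zb * π x
      rw [hzb, ← map_mul, ← map_mul]
      exact congrArg π (Subtype.ext (h.central x ((hPmem x).1 hx).1))
    · rw [card_map_of_injective P'.subtype_injective, hP'E.2, Nat.card_zpowers]
      exact (orderOf_eq_prime (by rw [pow_two, hzb2]) hzb1).ge
  have hcent' : centralizer (P' : Set (↥C ⧸ (zpowers t).subgroupOf C)) = (Subgroup.center ↥P').map P'.subtype := by
    refine le_antisymm ?_ ?_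
    · intro x hx
      obtain ⟨c, rfl⟩ := QuotientGroup.mk'_surjective _ x
      rw [hz']
      rcases hcentral c (fun s hs => (mem_centralizer_iff.1 hx _ (hmemP' s hs)).symm) with e | e
      · exact e ▸ one_mem _
      · exact e ▸ mem_zpowers _
    · rintro _ ⟨x, hx, rfl⟩
      exact mem_centralizer_iff.2 fun q hq => congrArg Subtype.val (mem_center_iff.1 hx ⟨q, hq⟩)
  have hnorm' : centralizer (((Subgroup.center ↥P').map P'.subtype : Subgroup _) :
      Set (↥C ⧸ (zpowers t).subgroupOf C)) ≤ normalizer (P' : Set (↥C ⧸ (zpowers t).subgroupOf C)) := by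
    rw [centralizer_zpowers hz']
    intro x hx
    obtain ⟨c, rfl⟩ := QuotientGroup.mk'_surjective _ x
    have hcz := hfixz c (mul_inv_eq_iff_eq_mul.2 (mem_centralizer_singleton_iff.1 hx))
    refine mem_normalizer_fintype ?_
    rintro _ ⟨s, hs, rfl⟩
    refine ⟨c * s * c⁻¹, mem_subgroupOf.2 ((hPmem _).2 ⟨h.norm c hcz s ((hPmem s).1 hs).1,
      mem_centralizer_singleton_iff.1 (c * s * c⁻¹ : C).2⟩), by simp only [map_mul, map_inv]; rfl⟩
  obtain ⟨w', hw1', hwP⟩ := Extraspecial.exists_card (p := 2) hP'E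
  have hw2' : 2 ≤ w' := by
    by_contra hlt
    have h8 : Nat.card P' ≤ 2 ^ 3 := hwP ▸ Nat.pow_le_pow_right (by norm_num) (by omega)
    have hk : Nat.card P ≤ 2 * Nat.card P' := by
      let f : P →* P' :=
        { toFun := fun x => ⟨π ⟨x, hPC x.2⟩, hmemP' x x.2⟩
          map_one' := Subtype.ext (map_one π)
          map_mul' := fun x y => Subtype.ext (π.map_mul ⟨x, hPC x.2⟩ ⟨y, hPC y.2⟩) }
      have hf : Nat.card f.ker ≤ 2 := by
        have hsub : f.ker.map P.subtype ≤ zpowers t := by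
          rintro _ ⟨x, hx, rfl⟩
          rcases (hker _).1 (congrArg Subtype.val hx) with e | e
          · show (x : G) ∈ zpowers t
            rw [show (x : G) = 1 from e]; exact one_mem _
          · show (x : G) ∈ zpowers t
            rw [show (x : G) = t from e]; exact mem_zpowers t
        have := card_le_of_le hsub
        rwa [card_map_of_injective P.subtype_injective, Nat.card_zpowers, ht] at this
      calc Nat.card P = Nat.card f.ker * f.ker.index := f.ker.card_mul_index.symm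
        _ ≤ 2 * Nat.card P' := Nat.mul_le_mul hf (by
            rw [index_ker]; exact card_le_card_group _)
    have hQP : Nat.card Q ≤ 2 * Nat.card P := by
      have hsplit : ∀ q : Q, (q : G) ∈ P ∨ a⁻¹ * q ∈ P := by
        intro q
        rcases h.conj_cases q.2 htQ with e | e
        · exact Or.inl ((hPmem _).2 ⟨q.2, mul_inv_eq_iff_eq_mul.1 e⟩)
        · refine Or.inr ((hPmem _).2 ⟨mul_mem (inv_mem ha) q.2, mul_inv_eq_iff_eq_mul.1 ?_⟩)
          calc a⁻¹ * q * t * (a⁻¹ * q)⁻¹ = a⁻¹ * (q * t * (q : G)⁻¹) * a := by group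
            _ = a⁻¹ * (a * t * a⁻¹) * a := by rw [e, hat]
            _ = t := by group
      classical
      let f : Q → Bool × P := fun q => if hq : (q : G) ∈ P then (true, ⟨q, hq⟩)
        else (false, ⟨a⁻¹ * q, (hsplit q).resolve_left hq⟩)
      have hf : Function.Injective f := fun p q e => by
        simp only [f] at e
        split_ifs at e with hp hq hq
        · exact Subtype.ext (show (p : G) = q from congrArg (fun p : Bool × P => (p.2 : G)) e)
        · simp at e
        · simp at e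
        · exact Subtype.ext (mul_left_cancel (congrArg Subtype.val (Prod.ext_iff.1 e).2))
      have := Nat.card_le_card_of_injective f hf
      rwa [Nat.card_prod, Nat.card_eq_fintype_card (α := Bool), Fintype.card_bool] at this
    have : 2 ^ 7 ≤ Nat.card Q := hcard ▸ Nat.pow_le_pow_right (by norm_num) (by omega)
    omega
  have hxC : (y * r)⁻¹ ∈ C := inv_mem (mem_centralizer_singleton_iff.2 hxt)
  have hconj : π ⟨(y * r)⁻¹, hxC⟩ * zb * (π ⟨(y * r)⁻¹, hxC⟩)⁻¹ = π ⟨v, hPC hvP⟩ := by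
    rw [hzb, ← map_inv, ← map_mul, ← map_mul]
    refine congrArg π (Subtype.ext ?_)
    show (y * r)⁻¹ * z * (y * r)⁻¹⁻¹ = v
    rw [← hxv]; group
  refine (Cfsg.Agent.S5422.result P' hP'E hcent' hnorm' w' hw2' (by rw [hwP, add_comm])
    (π ⟨(y * r)⁻¹, hxC⟩) ?_ ?_).2.2
  · intro hk
    have h1 := (mem_normalizer_iff.1 hk _).1 (hz' ▸ mem_zpowers zb)
    rw [hconj, hz'] at h1
    rcases (mem_zpowers_iff_eq hP'E hz').1 h1 with e1 | e1
    · rcases (hker _).1 e1 with e' | e'
      · exact hv1 e'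
      · exact htv e'.symm
    · have h2 : π (⟨v, hPC hvP⟩ * ⟨z, hPC hzP⟩⁻¹) = 1 := by rw [map_mul, map_inv, ← hzb, e1, mul_inv_cancel]
      rcases (hker _).1 h2 with e' | e'
      · exact hvz (mul_inv_eq_one.1 e')
      · exact htz ((show v = t * z from mul_inv_eq_iff_eq_mul.1 e') ▸ hconjzv |>.trans htzconj.symm)
  · rw [hz', MonoidHom.map_zpowers, zpowers_le]
    show π _ * zb * (π _)⁻¹ ∈ P'
    rw [hconj]
    exact hmemP' v hvP

end CfsgLib.LargeXS
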