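import Mathlib
import Cfsg.Agent.Lib.LargeXS.AffineStatement
import Cfsg.Agent.Lib.LargeXS.Congr
import Cfsg.Agent.Lib.LargeXSpecial.Extraspecial
import Cfsg.Agent.Lib.Components.GenFitting
import Cfsg.Agent.S5422

/-! The centralizer of a transvection in a special linear group over the field with two elements. -/

set_option autoImplicit false

namespace CfsgLib.LargeXS.Affine

open Subgroup

/-- The special linear group over the field with two elements is the general one. -/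
noncomputable def slEquivGL (k : ℕ) :
    Matrix.SpecialLinearGroup (Fin k) (ZMod 2) ≃* Matrix.GeneralLinearGroup (Fin k) (ZMod 2) :=
  MulEquiv.ofBijective Matrix.SpecialLinearGroup.toGL
    ⟨fun a b h => Subtype.ext (congrArg Units.val h), fun g => ⟨⟨g.1, by
      have hu : IsUnit (g.1 : Matrix (Fin k) (Fin k) (ZMod 2)).det := (Matrix.isUnit_iff_isUnit_det _).1 g.isUnit
      exact (show ∀ a : ZMod 2, a ≠ 0 → a = 1 by decide) _ hu.ne_zero⟩, Units.ext rfl⟩⟩

/-- Transport of linear automorphisms. -/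
def congrAut {W W' : Type*} [AddCommGroup W] [AddCommGroup W'] [Module (ZMod 2) W] [Module (ZMod 2) W']
    (e : W' ≃ₗ[ZMod 2] W) : (W ≃ₗ[ZMod 2] W) ≃* (W' ≃ₗ[ZMod 2] W') where
  toFun f := (e.trans f).trans e.symm
  invFun f := (e.symm.trans f).trans e
  left_inv f := LinearEquiv.toLinearMap_injective (LinearMap.ext fun v => by
    show e (e.symm (f (e (e.symm v)))) = f v
    rw [e.apply_symm_apply, e.apply_symm_apply])
  right_inv f := LinearEquiv.toLinearMap_injective (LinearMap.ext fun v => by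
    show e.symm (e (f (e.symm (e v)))) = f v
    rw [e.symm_apply_apply, e.symm_apply_apply])
  map_mul' f g := LinearEquiv.toLinearMap_injective (LinearMap.ext fun v => by
    show e.symm (f (g (e v))) = e.symm (f (e (e.symm (g (e v)))))
    rw [e.apply_symm_apply])

/-- Coordinates with the first one split off. -/
noncomputable def slEquiv (n : ℕ) : Matrix.SpecialLinearGroup (Fin (n + 2)) (ZMod 2) ≃* (V (n + 1) ≃ₗ[ZMod 2] V (n + 1)) :=
  ((slEquivGL (n + 2)).trans (glEquiv (n + 2))).trans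
    (congrAut (Fin.consLinearEquiv (ZMod 2) fun _ : Fin (n + 2) => ZMod 2))

theorem slEquiv_apply {n : ℕ} (g : Matrix.SpecialLinearGroup (Fin (n + 2)) (ZMod 2)) (v : V (n + 1)) :
    slEquiv n g v = (Fin.consLinearEquiv (ZMod 2) fun _ : Fin (n + 2) => ZMod 2).symm
      (Matrix.mulVec (g : Matrix (Fin (n + 2)) (Fin (n + 2)) (ZMod 2)) (Fin.cons v.1 v.2)) := rfl

theorem slEquiv_transvection {n : ℕ} (z : Matrix.SpecialLinearGroup (Fin (n + 2)) (ZMod 2))
    (hz : (z : Matrix (Fin (n + 2)) (Fin (n + 2)) (ZMod 2)) = Matrix.transvection 0 1 1) :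
    slEquiv n z = tA (Pi.single 0 1) := by
  refine LinearEquiv.toLinearMap_injective (LinearMap.ext fun v => ?_)
  show slEquiv n z v = tA (Pi.single 0 1) v
  rw [slEquiv_apply, hz, LinearEquiv.symm_apply_eq, tA_apply]
  show _ = (Fin.cons (v.1 + Pi.single 0 1 ⬝ᵥ v.2) v.2 : Fin (n + 2) → ZMod 2)
  funext i
  rw [Matrix.transvection, Matrix.add_mulVec, Matrix.one_mulVec, Pi.add_apply, Matrix.single_mulVec,
    single_dotProduct, show (Fin.cons v.1 v.2 : Fin (n + 2) → ZMod 2) 1 = v.2 0 from rfl]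
  refine Fin.cases ?_ (fun j => ?_) i
  · simp
  · simp [Fin.succ_ne_zero]

theorem conj_tA {k : ℕ} (g : (Fin k → ZMod 2) ≃ₗ[ZMod 2] (Fin k → ZMod 2)) (a b : Fin k → ZMod 2)
    (h : ∀ x, a ⬝ᵥ g.symm x = b ⬝ᵥ x) : kA g * tA a * (kA g)⁻¹ = tA b := by
  refine LinearEquiv.toLinearMap_injective (LinearMap.ext fun v => ?_)
  show kA g (tA a ((kA g).symm v)) = tA b v
  rw [show (kA g).symm v = (v.1, g.symm v.2) from rfl, tA_apply, kA_apply, tA_apply, h, LinearEquiv.apply_symm_apply]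

/-- `b ∘ g⁻¹` as a vector. -/
theorem exists_dual_conj {k : ℕ} (g : (Fin k → ZMod 2) ≃ₗ[ZMod 2] (Fin k → ZMod 2)) (a : Fin k → ZMod 2) :
    ∃ b, ∀ x, a ⬝ᵥ g.symm x = b ⬝ᵥ x := by
  refine ⟨fun i => a ⬝ᵥ g.symm (Pi.single i 1), fun x => ?_⟩
  conv_lhs => rw [pi_eq_sum_univ' x, map_sum, dotProduct_sum]
  simp only [map_smul, dotProduct_smul, smul_eq_mul]
  exact Finset.sum_congr rfl fun i _ => mul_comm _ _

theorem exists_kA_conj {k : ℕ} (φ : (Fin k → ZMod 2) ≃ₗ[ZMod 2] (Fin k → ZMod 2)) :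
    ∃ g : (Fin k → ZMod 2) ≃ₗ[ZMod 2] (Fin k → ZMod 2), ∀ a x, a ⬝ᵥ g.symm x = φ a ⬝ᵥ x := by
  let A := LinearMap.toMatrix' φ.toLinearMap
  let B := LinearMap.toMatrix' φ.symm.toLinearMap
  have hAB : A * B = 1 := by
    rw [← LinearMap.toMatrix'_comp, show φ.toLinearMap.comp φ.symm.toLinearMap = LinearMap.id from
      LinearMap.ext fun x => φ.apply_symm_apply x, LinearMap.toMatrix'_id]
  have hBA : B * A = 1 := by
    rw [← LinearMap.toMatrix'_comp, show φ.symm.toLinearMap.comp φ.toLinearMap = LinearMap.id from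
      LinearMap.ext fun x => φ.symm_apply_apply x, LinearMap.toMatrix'_id]
  let e : (Fin k → ZMod 2) ≃ₗ[ZMod 2] (Fin k → ZMod 2) :=
    LinearEquiv.ofLinear (Matrix.mulVecLin A.transpose) (Matrix.mulVecLin B.transpose)
      (by rw [← Matrix.mulVecLin_mul, ← Matrix.transpose_mul, hBA, Matrix.transpose_one, Matrix.mulVecLin_one])
      (by rw [← Matrix.mulVecLin_mul, ← Matrix.transpose_mul, hAB, Matrix.transpose_one, Matrix.mulVecLin_one])
  refine ⟨e.symm, fun a x => ?_⟩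
  show a ⬝ᵥ Matrix.mulVec A.transpose x = φ a ⬝ᵥ x
  rw [Matrix.mulVec_transpose, dotProduct_comm, ← Matrix.dotProduct_mulVec, LinearMap.toMatrix'_mulVec,
    dotProduct_comm]
  rfl

/-- The stabilizer of the vector. -/
def stab (k : ℕ) : Subgroup (V k ≃ₗ[ZMod 2] V k) where
  carrier := {f | f (z0 k) = z0 k}
  one_mem' := rfl
  mul_mem' := fun {f g} hf hg => by
    show f (g (z0 k)) = z0 k
    rw [hg, hf]
  inv_mem' := fun {f} hf => by
    show f.symm (z0 k) = z0 k
    rw [LinearEquiv.symm_apply_eq]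
    exact hf.symm

theorem lifted {G : Type*} [Group G] [Finite G] {n : ℕ} (P : Subgroup G) (c : Coords P n) (hn : 2 ≤ n) (z : G)
    (hcz : (c.z : G) = z) (hCP : centralizer ({z} : Set G) ≤ P) (k : P) (hk : k * c.z * k⁻¹ ∈ c.U)
    (hkne : k * c.z * k⁻¹ ≠ c.z) (Q : Subgroup G)
    (hQ : Q = (Cfsg.pCore 2 ↥(centralizer ({z} : Set G))).map (centralizer ({z} : Set G)).subtype) :
    Cfsg.IsExtraspecial 2 ↥Q ∧ Nat.card ↥Q = 2 ^ (2 * n + 1) ∧
      (∃ E : Subgroup G, E ≤ Q ∧ Cfsg.IsElementaryAbelian 2 E ∧ Nat.card ↥E = 2 ^ (n + 1)) ∧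
      Cfsg.IsLargeExtraspecial Q ∧
      ∃ K : Subgroup G, K ≤ centralizer ({z} : Set G) ∧ Q ⊓ K = ⊥ ∧ Q ⊔ K = centralizer ({z} : Set G) ∧
        Nonempty (↥K ≃* ((Fin n → ZMod 2) ≃ₗ[ZMod 2] (Fin n → ZMod 2))) := by
  set C := centralizer ({z} : Set G) with hC
  have hCeq : centralizer ({c.z} : Set P) = C.subgroupOf P := by
    ext x
    rw [mem_subgroupOf, hC, mem_centralizer_singleton_iff, mem_centralizer_singleton_iff, Subtype.ext_iff, ← hcz]
    rfl
  have hmapC : (centralizer ({c.z} : Set P)).map P.subtype = C := by rw [hCeq, map_subgroupOf_eq_of_le hCP]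
  have hQeq : Q = c.Q.map P.subtype := by
    let e : ↥(centralizer ({c.z} : Set P)) ≃* ↥C :=
      ((centralizer ({c.z} : Set P)).equivMapOfInjective _ P.subtype_injective).trans (MulEquiv.subgroupCongr hmapC)
    rw [hQ, ← c.pCore_eq (by omega), ← Components.pCore_map_equiv 2 e, map_map, map_map]
    rfl
  have eQ : ↥c.Q ≃* ↥Q :=
    (c.Q.equivMapOfInjective _ P.subtype_injective).trans (MulEquiv.subgroupCongr hQeq.symm)
  have hQE : Cfsg.IsExtraspecial 2 ↥Q := isExtraspecial_congr eQ (c.isExtraspecial (by omega))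
  have hQcard : Nat.card Q = 2 ^ (2 * n + 1) := by rw [← Nat.card_congr eQ.toEquiv, c.card_Q]
  have hcenQ : (Subgroup.center Q).map Q.subtype = zpowers z := by
    have h1 : (Subgroup.center Q).map Q.subtype = ((Subgroup.center c.Q).map c.Q.subtype).map P.subtype := by
      ext x
      constructor
      · rintro ⟨q, hq, rfl⟩
        obtain ⟨q', hq', hqe⟩ := mem_map.1 ((le_of_eq hQeq) q.2)
        refine ⟨q', ⟨⟨q', hq'⟩, mem_center_iff.2 fun r => ?_, rfl⟩, hqe⟩
        have h2 := congrArg Subtype.val (mem_center_iff.1 hq ⟨_, (le_of_eq hQeq.symm) ⟨r, r.2, rfl⟩⟩)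
        refine Subtype.ext (Subtype.ext ?_)
        simp only [coe_mul, coe_subtype] at h2 hqe ⊢
        rw [hqe]
        exact h2
      · rintro ⟨q', ⟨q, hq, rfl⟩, rfl⟩
        refine ⟨⟨_, (le_of_eq hQeq.symm) ⟨q, q.2, rfl⟩⟩, mem_center_iff.2 fun r => ?_, rfl⟩
        obtain ⟨r', hr', hre⟩ := mem_map.1 ((le_of_eq hQeq) r.2)
        have h2 := congrArg (fun p : c.Q => ((p : P) : G)) (mem_center_iff.1 hq ⟨r', hr'⟩)
        refine Subtype.ext ?_
        simp only [coe_mul, coe_subtype] at h2 hre ⊢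
        rw [← hre]
        exact h2
    rw [h1, c.center_map (by omega), MonoidHom.map_zpowers, ← hcz]
    rfl
  have hcent : centralizer (Q : Set G) = (Subgroup.center Q).map Q.subtype := by
    refine le_antisymm (fun x hx => ?_) ?_
    · have hzQ : z ∈ Q := map_subtype_le _ (hcenQ ▸ mem_zpowers z)
      have hxP : x ∈ P := hCP (mem_centralizer_singleton_iff.2 (mem_centralizer_iff.1 hx z hzQ).symm)
      rw [hcenQ]
      rcases c.central_Q (x := ⟨x, hxP⟩) (fun q hq => Subtype.ext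
        (mem_centralizer_iff.1 hx q (hQeq ▸ ⟨q, hq, rfl⟩))) with e | e
      · exact (show x = 1 from congrArg Subtype.val e) ▸ one_mem _
      · exact (show x = z from (congrArg Subtype.val e).trans hcz) ▸ mem_zpowers _
    · rintro _ ⟨x, hx, rfl⟩
      exact mem_centralizer_iff.2 fun q hq => congrArg Subtype.val (mem_center_iff.1 hx ⟨q, hq⟩)
  have hnorm : centralizer (((Subgroup.center Q).map Q.subtype : Subgroup G) : Set G) ≤ normalizer (Q : Set G) := by
    rw [centralizer_zpowers hcenQ]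
    intro g hg
    refine mem_normalizer_fintype fun x hx => ?_
    rw [hQeq] at hx ⊢
    obtain ⟨x', hx', rfl⟩ := hx
    exact ⟨⟨g, hCP hg⟩ * x' * ⟨g, hCP hg⟩⁻¹, c.conj_mem_Q (by rw [hCeq]; exact hg) hx', rfl⟩
  have hlarge : Cfsg.IsLargeExtraspecial Q := by
    refine (Cfsg.Agent.S5422.result Q hQE hcent hnorm n hn hQcard (k : G) ?_ ?_).2.2
    · intro hk'
      rw [hcenQ] at hk'
      have h1 := (mem_normalizer_iff.1 hk' z).1 (mem_zpowers z)
      rcases (mem_zpowers_iff_eq hQE hcenQ).1 h1 with e | e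
      · have e0 : z = 1 := conj_eq_one_iff.1 e
        exact c.z_ne_one (Subtype.ext (hcz.trans e0))
      · exact hkne (Subtype.ext (by rw [coe_mul, coe_mul, InvMemClass.coe_inv, hcz]; exact e))
    · rw [hcenQ, MonoidHom.map_zpowers, zpowers_le, hQeq]
      exact ⟨k * c.z * k⁻¹, c.U_le hk, by
        rw [coe_subtype, coe_mul, coe_mul, InvMemClass.coe_inv, hcz]; rfl⟩
  refine ⟨hQE, hQcard, ?_, hlarge, c.K.map P.subtype, ?_, ?_, ?_, ?_⟩
  · obtain ⟨E, hEQ, hEe, hEc⟩ := c.elementary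
    refine ⟨E.map P.subtype, hQeq ▸ map_mono hEQ, ⟨⟨⟨?_⟩⟩, ?_⟩, by
      rw [card_map_of_injective P.subtype_injective, hEc]⟩
    · rintro ⟨_, a, ha, rfl⟩ ⟨_, b, hb, rfl⟩
      exact Subtype.ext (congrArg (fun p : E => ((p : P) : G)) (hEe.1.is_comm.comm ⟨a, ha⟩ ⟨b, hb⟩))
    · rintro _ ⟨a, ha, rfl⟩
      rw [← map_pow, hEe.2 a ha, map_one]
  · rw [← hmapC]; exact map_mono c.K_le
  · rw [hQeq, ← map_inf _ _ _ P.subtype_injective, c.inf_K, Subgroup.map_bot]
  · rw [hQeq, ← Subgroup.map_sup, c.sup_K, hmapC]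
  · obtain ⟨k'⟩ := c.K_equiv
    exact ⟨(c.K.equivMapOfInjective _ P.subtype_injective).symm.trans k'⟩

theorem special_linear_transvection (n : ℕ) (hn : 2 ≤ n)
    (z : Matrix.SpecialLinearGroup (Fin (n + 2)) (ZMod 2))
    (hz : (z : Matrix (Fin (n + 2)) (Fin (n + 2)) (ZMod 2)) = Matrix.transvection 0 1 1)
    (Q : Subgroup (Matrix.SpecialLinearGroup (Fin (n + 2)) (ZMod 2)))
    (hQ : Q = (Cfsg.pCore 2 ↥(centralizer ({z} : Set (Matrix.SpecialLinearGroup (Fin (n + 2)) (ZMod 2))))).map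
      (centralizer ({z} : Set (Matrix.SpecialLinearGroup (Fin (n + 2)) (ZMod 2)))).subtype) :
    Cfsg.IsExtraspecial 2 ↥Q ∧ Nat.card ↥Q = 2 ^ (2 * n + 1) ∧
      (∃ E : Subgroup (Matrix.SpecialLinearGroup (Fin (n + 2)) (ZMod 2)), E ≤ Q ∧ Cfsg.IsElementaryAbelian 2 E ∧
        Nat.card ↥E = 2 ^ (n + 1)) ∧
      Cfsg.IsLargeExtraspecial Q ∧
      ∃ K : Subgroup (Matrix.SpecialLinearGroup (Fin (n + 2)) (ZMod 2)),
        K ≤ centralizer ({z} : Set (Matrix.SpecialLinearGroup (Fin (n + 2)) (ZMod 2))) ∧ Q ⊓ K = ⊥ ∧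
        Q ⊔ K = centralizer ({z} : Set (Matrix.SpecialLinearGroup (Fin (n + 2)) (ZMod 2))) ∧
        Nonempty (↥K ≃* Matrix.SpecialLinearGroup (Fin n) (ZMod 2)) := by
  classical
  set Φ := slEquiv n with hΦ
  let P : Subgroup (Matrix.SpecialLinearGroup (Fin (n + 2)) (ZMod 2)) := (stab (n + 1)).comap Φ.toMonoidHom
  let ρ : P →* (V (n + 1) ≃ₗ[ZMod 2] V (n + 1)) := Φ.toMonoidHom.comp P.subtype
  have hρ : Function.Injective ρ := fun a b h => Subtype.ext (Φ.injective h)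
  let τ : Multiplicative (Fin (n + 1) → ZMod 2) →* P :=
    { toFun := fun a => ⟨Φ.symm (tA a.toAdd), by
        show Φ (Φ.symm (tA a.toAdd)) ∈ stab (n + 1)
        rw [Φ.apply_symm_apply]
        show tA a.toAdd (z0 (n + 1)) = z0 (n + 1)
        simp [z0]⟩
      map_one' := hρ (by
        show Φ (Φ.symm (tA 0)) = Φ 1
        rw [Φ.apply_symm_apply, map_one]
        exact LinearEquiv.toLinearMap_injective (LinearMap.ext fun v => show tA 0 v = v by simp))
      map_mul' := fun a b => hρ (by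
        show Φ (Φ.symm (tA (a * b).toAdd)) = Φ (Φ.symm (tA a.toAdd) * Φ.symm (tA b.toAdd))
        rw [Φ.map_mul, Φ.apply_symm_apply, Φ.apply_symm_apply, Φ.apply_symm_apply, tA_mul, toAdd_mul]) }
  let κ : ((Fin (n + 1) → ZMod 2) ≃ₗ[ZMod 2] (Fin (n + 1) → ZMod 2)) →* P :=
    { toFun := fun g => ⟨Φ.symm (kA g), by
        show Φ (Φ.symm (kA g)) ∈ stab (n + 1)
        rw [Φ.apply_symm_apply]
        show kA g (z0 (n + 1)) = z0 (n + 1)
        simp [z0]⟩
      map_one' := hρ (by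
        show Φ (Φ.symm (kA 1)) = Φ 1
        rw [Φ.apply_symm_apply, map_one]
        exact map_one kHom)
      map_mul' := fun a b => hρ (by
        show Φ (Φ.symm (kA (a * b))) = Φ (Φ.symm (kA a) * Φ.symm (kA b))
        rw [map_mul, Φ.apply_symm_apply, Φ.apply_symm_apply, Φ.apply_symm_apply]
        exact map_mul kHom a b) }
  have hρτ : ∀ a, ρ (τ (Multiplicative.ofAdd a)) = tA a := fun a => Φ.apply_symm_apply _
  have hρκ : ∀ g, ρ (κ g) = kA g := fun g => Φ.apply_symm_apply _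
  have hdec : ∀ p : P, ∃ g a, p = κ g * τ (Multiplicative.ofAdd a) := fun p => by
    obtain ⟨g, a, h⟩ := exists_decomp (Φ p) p.2
    exact ⟨g, a, hρ (by rw [map_mul, hρκ, hρτ]; exact h)⟩
  have hconj : ∀ g a b, (∀ x, a ⬝ᵥ g.symm x = b ⬝ᵥ x) →
      κ g * τ (Multiplicative.ofAdd a) * (κ g)⁻¹ = τ (Multiplicative.ofAdd b) := fun g a b h => hρ (by
    rw [map_mul, map_mul, map_inv, hρκ, hρτ, hρτ]
    exact conj_tA g a b h)
  have hτinj : Function.Injective τ := fun a b h => Multiplicative.toAdd.injective (tA_injective (by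
    have h1 := congrArg ρ h
    rwa [← ofAdd_toAdd a, ← ofAdd_toAdd b, hρτ, hρτ] at h1))
  set U := τ.range with hUdef
  set M := κ.range with hMdef
  haveI hUn : U.Normal := ⟨by
    rintro _ ⟨a, rfl⟩ p
    obtain ⟨g, b, rfl⟩ := hdec p
    obtain ⟨c, hc⟩ := exists_dual_conj g a.toAdd
    refine ⟨Multiplicative.ofAdd c, ?_⟩
    rw [← hconj g a.toAdd c hc, ofAdd_toAdd, mul_inv_rev, show κ g * τ (Multiplicative.ofAdd b) * τ a *
      ((τ (Multiplicative.ofAdd b))⁻¹ * (κ g)⁻¹) = κ g * (τ (Multiplicative.ofAdd b) * τ a *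
      (τ (Multiplicative.ofAdd b))⁻¹) * (κ g)⁻¹ by group, ← map_mul, mul_comm (Multiplicative.ofAdd b) a,
      map_mul, mul_inv_cancel_right]⟩
  have hUM' : U ⊔ M = ⊤ := eq_top_iff.2 fun p _ => by
    obtain ⟨g, a, rfl⟩ := hdec p
    exact mul_mem (mem_sup_right ⟨g, rfl⟩) (mem_sup_left ⟨_, rfl⟩)
  have hU : Cfsg.IsElementaryAbelian 2 U := by
    refine ⟨⟨⟨?_⟩⟩, ?_⟩
    · rintro ⟨_, a, rfl⟩ ⟨_, b, rfl⟩
      exact Subtype.ext (by show τ a * τ b = τ b * τ a; rw [← map_mul, ← map_mul, mul_comm])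
    · rintro _ ⟨a, rfl⟩
      rw [← map_pow, show a ^ 2 = 1 from Multiplicative.toAdd.injective (by
        rw [toAdd_pow, toAdd_one, two_nsmul]
        exact funext fun i => CharTwo.add_self_eq_zero _), map_one]
  have hUcard : Nat.card U = 2 ^ (n + 1) := by
    rw [hUdef, ← Nat.card_congr (MonoidHom.ofInjective hτinj).toEquiv, Nat.card_congr Multiplicative.toAdd,
      Nat.card_fun, Nat.card_zmod, Nat.card_fin]
  have hfaith : ∀ m ∈ M, (∀ u ∈ U, m * u * m⁻¹ = u) → m = 1 := by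
    rintro _ ⟨g, rfl⟩ hfix
    have hg : g = 1 := LinearEquiv.toLinearMap_injective (LinearMap.ext fun x => by
      show g x = x
      funext i
      obtain ⟨c, hc⟩ := exists_dual_conj g (Pi.single i 1)
      have h1 := hfix _ ⟨Multiplicative.ofAdd (Pi.single i 1), rfl⟩
      rw [hconj g _ c hc] at h1
      have h2 := hc (g x)
      rw [Multiplicative.ofAdd.injective (hτinj h1), LinearEquiv.symm_apply_apply, single_dotProduct,
        single_dotProduct, one_mul, one_mul] at h2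
      exact h2.symm)
    rw [hg, map_one]
  have hfull : ∀ φ : ↥U ≃* ↥U, ∃ m ∈ M, ∀ u : ↥U, ((φ u : ↥U) : P) = m * u * m⁻¹ := by
    intro φ
    let E : Multiplicative (Fin (n + 1) → ZMod 2) ≃* U := MonoidHom.ofInjective hτinj
    let ψ : (Fin (n + 1) → ZMod 2) ≃+ (Fin (n + 1) → ZMod 2) :=
      AddEquiv.toMultiplicative.symm ((E.trans φ).trans E.symm)
    let ψl : (Fin (n + 1) → ZMod 2) ≃ₗ[ZMod 2] (Fin (n + 1) → ZMod 2) :=
      { ψ with map_smul' := fun c x => ZMod.map_smul ψ c x }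
    obtain ⟨g, hg⟩ := exists_kA_conj ψl
    refine ⟨κ g, ⟨g, rfl⟩, fun u => ?_⟩
    obtain ⟨a, rfl⟩ := E.surjective u
    show ((φ (E a)) : P) = κ g * τ a * (κ g)⁻¹
    rw [← ofAdd_toAdd a, hconj g a.toAdd (ψl a.toAdd) (hg _)]
    show _ = ((E (Multiplicative.ofAdd (ψ a.toAdd))) : P)
    refine congrArg Subtype.val ?_
    show φ (E _) = E (E.symm (φ (E _)))
    rw [E.apply_symm_apply]
  have hzP : z ∈ P := by
    show Φ z (z0 (n + 1)) = z0 (n + 1)
    rw [slEquiv_transvection z hz]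
    simp [z0]
  set zP : P := ⟨z, hzP⟩ with hzP'
  have hzU : zP ∈ U := ⟨Multiplicative.ofAdd (Pi.single 0 1), hρ (by
    rw [hρτ]; exact (slEquiv_transvection z hz).symm)⟩
  have hz1 : zP ≠ 1 := fun e => by
    have h1 : (tA (Pi.single 0 1) : V (n + 1) ≃ₗ[ZMod 2] V (n + 1)) = 1 := by
      rw [← slEquiv_transvection z hz]
      show ρ zP = 1
      rw [e, map_one]
    have h2 := congrArg (fun f : V (n + 1) ≃ₗ[ZMod 2] V (n + 1) => (f (0, Pi.single 0 1)).1) h1
    simp at h2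
  obtain ⟨c, hcU, hcz⟩ := affine_statement n (by omega) U M hU hUcard hUM' hfaith hfull zP hzU hz1
  -- the centralizer lies in the stabilizer
  have hCP : centralizer ({z} : Set (Matrix.SpecialLinearGroup (Fin (n + 2)) (ZMod 2))) ≤ P := by
    intro g hg
    have h1 : Φ g * tA (Pi.single 0 1) = tA (Pi.single 0 1) * Φ g := by
      rw [← slEquiv_transvection z hz, ← map_mul, ← map_mul, mem_centralizer_singleton_iff.1 hg]
    have h2 := congrArg (fun f : V (n + 1) ≃ₗ[ZMod 2] V (n + 1) => f (0, Pi.single 0 1)) h1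
    simp only [LinearEquiv.mul_apply] at h2
    rw [show tA (Pi.single 0 1) ((0 : ZMod 2), (Pi.single 0 1 : Fin (n + 1) → ZMod 2)) =
      z0 (n + 1) + (0, Pi.single 0 1) by simp [z0], map_add,
      show tA (Pi.single 0 1) (Φ g (0, Pi.single 0 1)) = ((Φ g (0, Pi.single 0 1)).2 0) • z0 (n + 1) +
        Φ g (0, Pi.single 0 1) by
        rw [tA_apply, single_dotProduct, one_mul]
        exact Prod.ext (by simp [z0, add_comm]) (by simp [z0])] at h2
    have h3 := add_right_cancel h2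
    show Φ g (z0 (n + 1)) = z0 (n + 1)
    rcases (show ∀ a : ZMod 2, a = 0 ∨ a = 1 by decide) ((Φ g (0, Pi.single 0 1)).2 0) with e | e
    · rw [e, zero_smul] at h3
      have h4 : z0 (n + 1) = 0 := (Φ g).injective (by rw [h3, map_zero])
      exact absurd (congrArg Prod.fst h4) one_ne_zero
    · rw [h3, e, one_smul]
  let sw : (Fin (n + 1) → ZMod 2) ≃ₗ[ZMod 2] (Fin (n + 1) → ZMod 2) :=
    LinearEquiv.funCongrLeft (ZMod 2) (ZMod 2) (Equiv.swap 0 1)
  have hsw : ∀ x, (Pi.single 0 1 : Fin (n + 1) → ZMod 2) ⬝ᵥ sw.symm x = Pi.single 1 1 ⬝ᵥ x := fun x => by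
    rw [single_dotProduct, single_dotProduct, one_mul, one_mul]
    show x ((Equiv.swap 0 1).symm 0) = x 1
    rw [Equiv.symm_swap, Equiv.swap_apply_left]
  have hzt : zP = τ (Multiplicative.ofAdd (Pi.single 0 1)) := hρ (by
    rw [hρτ]; exact slEquiv_transvection z hz)
  have h01 : (0 : Fin (n + 1)) ≠ 1 := by
    intro e
    have := congrArg Fin.val e
    simp at this
    omega
  have hgz : κ sw * c.z * (κ sw)⁻¹ = τ (Multiplicative.ofAdd (Pi.single 1 1)) := by
    rw [hcz, hzt]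
    exact hconj sw _ _ hsw
  have hne : κ sw * c.z * (κ sw)⁻¹ ≠ c.z := fun e => by
    rw [hgz, hcz, hzt] at e
    have h2 := congrFun (Multiplicative.ofAdd.injective (hτinj e)) 1
    rw [Pi.single_eq_same, Pi.single_eq_of_ne h01.symm] at h2
    exact one_ne_zero h2
  have hmem : κ sw * c.z * (κ sw)⁻¹ ∈ c.U := by
    rw [hgz, hcU]
    exact ⟨_, rfl⟩
  obtain ⟨h1, h2, h3, h4, K, hK1, hK2, hK3, ⟨k⟩⟩ :=
    lifted P c hn z (congrArg Subtype.val hcz) hCP (κ sw) hmem hne Q hQ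
  exact ⟨h1, h2, h3, h4, K, hK1, hK2, hK3, ⟨(k.trans (glEquiv n).symm).trans (slEquivGL n).symm⟩⟩

end CfsgLib.LargeXS.Affine
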