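import Cfsg.Agent.Lib.LargeXS.CentralizerTransfer
import Cfsg.Agent.Lib.LargeXS.SpecialLinearTransvection
import Cfsg.Agent.Lib.M24Cent.Iso
import Cfsg.Agent.Lib.M24Stab.Octad

/-! The involution with eight fixed points of the Mathieu group of degree 24. -/

set_option autoImplicit false

namespace CfsgLib.LargeXS

open Cfsg Subgroup CfsgLib.M24Elt

local notation "SL5" => Matrix.SpecialLinearGroup (Fin 5) (ZMod 2)

theorem map_conj_centralizer {G : Type*} [Group G] (u x : G) :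
    (centralizer ({x} : Set G)).map (MulAut.conj u).toMonoidHom = centralizer ({u * x * u⁻¹} : Set G) := by
  ext g
  constructor
  · rintro ⟨a, ha, rfl⟩
    rw [SetLike.mem_coe, mem_centralizer_singleton_iff] at ha
    rw [mem_centralizer_singleton_iff]
    simp only [MulEquiv.coe_toMonoidHom, MulAut.conj_apply]
    calc u * a * u⁻¹ * (u * x * u⁻¹) = u * (a * x) * u⁻¹ := by group
      _ = u * (x * a) * u⁻¹ := by rw [ha]
      _ = _ := by group
  · intro hg
    rw [mem_centralizer_singleton_iff] at hg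
    refine ⟨u⁻¹ * g * u, mem_centralizer_singleton_iff.2 ?_, by simp [mul_assoc]⟩
    calc u⁻¹ * g * u * x = u⁻¹ * (g * (u * x * u⁻¹)) * u := by group
      _ = u⁻¹ * (u * x * u⁻¹ * g) * u := by rw [hg]
      _ = _ := by group

theorem m24_conj_zInv {z : ↥M24} (hz : orderOf z = 2) (h8 : fixCard (z : Equiv.Perm GolayPt) = 8) :
    ∃ u : ↥M24, u * M24Cent.zInv * u⁻¹ = z := by
  rcases involution_class z.2 (by rw [Subgroup.orderOf_coe]; exact hz) with ⟨-, u, hu, he⟩ | ⟨h0, -⟩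
  · exact ⟨⟨u, hu⟩, Subtype.ext he⟩
  · omega

theorem m24_involution_centralizer (z : ↥M24) (hz : orderOf z = 2)
    (hfix : (Finset.univ.filter fun p : GolayPt => (z : Equiv.Perm GolayPt) p = p) ∈ octads)
    (Q : Subgroup ↥M24)
    (hQ : Q = (Cfsg.pCore 2 ↥(centralizer ({z} : Set ↥M24))).map (centralizer ({z} : Set ↥M24)).subtype) :
    Cfsg.IsExtraspecial 2 ↥Q ∧ Nat.card ↥Q = 2 ^ 7 ∧
      (∃ E : Subgroup ↥M24, E ≤ Q ∧ Cfsg.IsElementaryAbelian 2 E ∧ Nat.card ↥E = 2 ^ 4) ∧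
      Cfsg.IsLargeExtraspecial Q ∧
      ∃ K : Subgroup ↥M24, K ≤ centralizer ({z} : Set ↥M24) ∧ Q ⊓ K = ⊥ ∧
        Q ⊔ K = centralizer ({z} : Set ↥M24) ∧ Nonempty (↥K ≃* Matrix.SpecialLinearGroup (Fin 3) (ZMod 2)) := by
  classical
  set o := Finset.univ.filter fun p : GolayPt => (z : Equiv.Perm GolayPt) p = p with ho
  have ho8 : o.card = 8 := hfix.2
  have hmo : ∀ p, p ∈ o ↔ (z : Equiv.Perm GolayPt) p = p := fun p => by simp [ho]
  let s : SL5 := ⟨Matrix.transvection 0 1 1, Matrix.det_transvection_of_ne 0 1 (by decide) 1⟩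
  obtain ⟨-, ⟨e₀⟩⟩ := M24Cent.centralizer_iso_zInv s rfl
  -- the pointwise stabilizer of the octad
  let A : Subgroup ↥M24 := (M24Stab.ptStab o).subgroupOf M24
  have hA : ∀ g : ↥M24, g ∈ A ↔ ∀ p ∈ o, (g : Equiv.Perm GolayPt) p = p := fun g => by
    rw [mem_subgroupOf, M24Stab.mem_ptStab]
    exact ⟨fun h => h.2, fun h => ⟨g.2, h⟩⟩
  obtain ⟨hA16, hA2⟩ := Golay.octad_pointwise hfix
  have hAsq : ∀ g ∈ A, g * g = 1 := fun g hg => Subtype.ext (hA2 g.1 hg)
  have hAcomm : ∀ a ∈ A, ∀ b ∈ A, a * b = b * a := fun a ha b hb => by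
    have h1 := inv_eq_of_mul_eq_one_right (hAsq _ (mul_mem ha hb))
    rw [mul_inv_rev, inv_eq_of_mul_eq_one_right (hAsq _ ha), inv_eq_of_mul_eq_one_right (hAsq _ hb)] at h1
    exact h1.symm
  have hzA : z ∈ A := (hA z).2 fun p hp => (hmo p).1 hp
  have hAC : A ≤ centralizer ({z} : Set ↥M24) := fun a ha =>
    mem_centralizer_singleton_iff.2 (hAcomm a ha z hzA)
  have hAn : (A.subgroupOf (centralizer ({z} : Set ↥M24))).Normal := by
    refine ⟨fun a ha c => ?_⟩
    rw [mem_subgroupOf, hA] at ha ⊢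
    intro p hp
    have hc : ((c : ↥M24) : Equiv.Perm GolayPt) * z = z * ((c : ↥M24) : Equiv.Perm GolayPt) :=
      congrArg Subtype.val (mem_centralizer_singleton_iff.1 c.2)
    have hq : ((c : ↥M24) : Equiv.Perm GolayPt)⁻¹ p ∈ o := by
      rw [hmo]
      have h1 := congrArg (fun σ => σ p) (Commute.inv_left (hc : Commute _ _)).eq
      simp only [Equiv.Perm.mul_apply] at h1
      rw [← h1, (hmo p).1 hp]
    show ((c : ↥M24) : Equiv.Perm GolayPt) (((a : ↥M24) : Equiv.Perm GolayPt)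
      (((c : ↥M24) : Equiv.Perm GolayPt)⁻¹ p)) = p
    rw [ha _ hq]
    simp
  have hAp : IsPGroup 2 ↥(A.subgroupOf (centralizer ({z} : Set ↥M24))) := fun a =>
    ⟨1, Subtype.ext (Subtype.ext (by simpa [pow_two] using hAsq _ a.2))⟩
  have hAQ : A ≤ Q := fun a ha => hQ ▸
    ⟨⟨a, hAC ha⟩, (le_sSup ⟨hAn, hAp⟩ : A.subgroupOf _ ≤ Cfsg.pCore 2 _) (mem_subgroupOf.2 ha), rfl⟩
  -- a conjugate of `z` in the stabilizer, other than `z`
  have hcardA : Nat.card A = 16 := by
    rw [← hA16]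
    exact Nat.card_congr (subgroupOfEquivOfLe inf_le_left).toEquiv
  obtain ⟨w, hwA, hw1, hwz⟩ : ∃ w ∈ A, w ≠ 1 ∧ w ≠ z := by
    by_contra! hall
    have h2 : Nat.card A ≤ Nat.card ({1, z} : Set ↥M24) :=
      Nat.card_mono (Set.toFinite _) fun a ha => (em (a = 1)).elim Or.inl fun h => Or.inr (hall a ha h)
    have h3 : Nat.card ({1, z} : Set ↥M24) ≤ 2 := by
      rw [Nat.card_coe_set_eq]
      exact (Set.ncard_insert_le _ _).trans (by simp)
    omega
  have hwfix : fixCard (w : Equiv.Perm GolayPt) = 8 := by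
    have : (Finset.univ.filter fun p => (w : Equiv.Perm GolayPt) p = p) = o := by
      ext p
      simp only [Finset.mem_filter, Finset.mem_univ, true_and]
      refine ⟨fun hp => ?_, (hA w).1 hwA p⟩
      by_contra hpo
      exact hw1 (Subtype.ext ((M24Stab.regular hfix hpo).2 w.1 hwA hp))
    rw [fixCard, this, ho8]
  have hwo : orderOf w = 2 := orderOf_eq_prime (by rw [pow_two]; exact hAsq w hwA) hw1
  obtain ⟨u, hu⟩ := m24_conj_zInv hz (by rw [fixCard, ← ho, ho8])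
  obtain ⟨v, hv⟩ := m24_conj_zInv hwo hwfix
  have hk : (v * u⁻¹) * z * (v * u⁻¹)⁻¹ = w := by rw [← hu, ← hv]; group
  -- transfer
  let e : ↥(centralizer ({z} : Set ↥M24)) ≃* ↥(centralizer ({s} : Set SL5)) :=
    (((centralizer ({M24Cent.zInv} : Set ↥M24)).equivMapOfInjective (MulAut.conj u).toMonoidHom
      (MulAut.conj u).injective).trans
      (MulEquiv.subgroupCongr (by rw [← hu]; exact map_conj_centralizer u M24Cent.zInv))).symm.trans e₀
  exact transfer_centralizer hz e (n := 3) (by norm_num) Q _ hQ rfl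
    (Affine.special_linear_transvection 3 (by norm_num) s rfl _ rfl) (hAQ hzA) (v * u⁻¹)
    (hk ▸ hAQ hwA) (hk ▸ hwz)

end CfsgLib.LargeXS
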